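import Mathlib.Data.Nat.Notation

/-!
A Sylow 3-subgroup of the group of the code with conjugators, and the extensions of pairings of six points.
-/

set_option autoImplicit false

namespace CfsgLib.Golay.Classes

/-- an element of order three with six fixed points -/
def threeSix : ℕ := 984814078435412628393149578418295904

/-- an element of order three without fixed points -/
def threeFree : ℕ := 650636338459473753142746120021377089

/-- the fixed points of `threeSix` -/
def sixFixed : List ℕ := [0, 7, 12, 21, 22, 23]

/-- the elements of a Sylow 3-subgroup -/
def sylThree : List ℕ := [984818244535754528103549039458486304,
  984814078435412628393149578418295904,
  984800287078636538333654440991565280,
  650636338459473753142746120021377089,
  650637302552573514498731437157593249,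
  650644747568450152748598726957915425,
  217692710877192482733282272555172866,
  217687879071833164860448764392619394,
  217683757017269305421355264436604642,
  69104237628036558799889324166143043,
  69092566258171701881884817410293923,
  69106539762400483291225812559376675,
  383832650991182472170630964548340741,
  383835234817793903591163387127235973,
  383842875068641150877797561665601253,
  93081581304348619442035708077161481,
  93078917289151510177103422866296201,
  93080464744873789588645948718843625,
  29426659516791205717113897890190380,
  29419890861487502852039085581116524,
  29433127954917060245975315542739436,
  152172084067195080424149067332104271,
  152166941340420296785831997138361519,
  152181787808780177089640747822645551,
  527888064542239714479712481979769911,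
  527894815910045941899611457631783031,
  527883205439754056829620353455134199]

/-- conjugators from a representative to each element -/
def sylThreeConj : List ℕ := [984818244535754528103549039458486304,
  508406820048086735871608633167062368,
  983134450238761212847564326777697398,
  456973085313073654979055505594503725,
  833874814216870919992797730166062825,
  841566631015290239684641521779542628,
  296618377820046197749776373980397602,
  683121115675230904930858765376005505,
  185032117613681833005200931967699666,
  676306914976806089398766313951123143,
  770231444865011230945568495722287280,
  768646478555582545371242437349719426,
  221458732056910226975365492956972456,
  810467003262121009773505009890153540,
  770031201642304112861660326000243170,
  420917124260130642554304496937670224,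
  680419979419278182616324243413652726,
  194317501941038532492290071200516296,
  69428748328514106896702616532764963,
  935066921777568611113113998261210215,
  925744277677255820317346858752352679,
  689811903466348919438853621050716390,
  391293530247322561951347974015275590,
  666287894113361114419957525871024373,
  295285269521220808385117196782283189,
  92546524656612658786325744702245349,
  195372394037679801911883957673248231]

/-- elements inducing every pairing of the fixed points -/
def pairExt : List ℕ := [944206391734751696288842115682181319,
  888819926801727245307104844956973607,
  526616813313272195770369257882915367,
  943994690756870124135728017186143532,
  882341963006973523427499407651786252,
  318930797368517616242434862095995500,
  943703127250481099972945462201766325,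
  507550080935241895626524065677857301,
  306348188974517774455354746323194197,
  873253168112599357906814874063288758,
  498765262104975051392559673880380502,
  291276289850361060008222058664501718,
  28169973429806154126580066807262647,
  15874208623605883676889346484649271,
  9586650490846153313432707754248727]

end CfsgLib.Golay.Classes
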