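import Cfsg.Agent.Lib.Golay.Systems.TrioChecks
import Cfsg.Agent.Lib.Golay.Systems.SextetChecks
import Cfsg.Agent.Lib.Golay.Classes.ThreeData

/-!
Systems fixed by representatives of the classes of elements of orders two and three.
-/

set_option autoImplicit false
-- the checks run one after another, which keeps the peak memory low
set_option Elab.async false
set_option maxRecDepth 20000

namespace CfsgLib.Golay.Classes

/-- an involution fixing an octad -/
def invEight : ℕ := 398981241912653845706389259657906177

/-- an involution without fixed points -/
def invFree : ℕ := 801039483099465510188260850722838984

/-- a packed system is mapped to itself -/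
def sysFixed (P : ℕ) (u : List ℕ) : Bool := setEq (u.map fun m => mimgB 24 m P) u

/-- a word is mapped to itself -/
def wordFixed (P m : ℕ) : Bool := mimgB 24 m P == m

theorem octads_fixed : (octLit.filter (wordFixed threeSix)).length = 21 ∧
    (octLit.filter (wordFixed invEight)).length = 71 ∧
    (octLit.filter (wordFixed invFree)).length = 15 := by decide +kernel

theorem dodecads_fixed : (dodLit.filter (wordFixed threeSix)).length = 20 := by decide +kernel

theorem trios_fixed_six : trioTree.objs.countP (sysFixed threeSix) = 15 := by decide +kernel

theorem trios_fixed_free : trioTree.objs.countP (sysFixed threeFree) = 15 := by decide +kernel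

theorem trios_fixed_eight : trioTree.objs.countP (sysFixed invEight) = 99 := by decide +kernel

theorem trios_fixed_inv : trioTree.objs.countP (sysFixed invFree) = 75 := by decide +kernel

theorem sextets_fixed_six : sextTree.objs.countP (sysFixed threeSix) = 16 := by decide +kernel

theorem sextets_fixed_free : sextTree.objs.countP (sysFixed threeFree) = 7 := by decide +kernel

theorem sextets_fixed_eight : sextTree.objs.countP (sysFixed invEight) = 91 := by decide +kernel

theorem sextets_fixed_inv : sextTree.objs.countP (sysFixed invFree) = 51 := by decide +kernel

end CfsgLib.Golay.Classes
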