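import Cfsg.Agent.Lib.Golay.Classes.Three
import Cfsg.Agent.Lib.Golay.Classes.FixChecks

/-!
The numbers of systems fixed by elements of orders two and three.
-/

set_option autoImplicit false
set_option maxRecDepth 20000

namespace CfsgLib.Golay.Classes

open Cfsg CfsgLib.Golay.SylowTwo
open scoped Pointwise

attribute [local irreducible] idP toPerm mulP validP octTree dodTree trioTree sextTree

theorem setEq_of_objF {a b : List ℕ} (ha : ∀ m ∈ a, m < 2 ^ 24) (hb : ∀ m ∈ b, m < 2 ^ 24)
    (h : objF a = objF b) : setEq a b = true := by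
  simp only [setEq, Bool.and_eq_true, List.all_eq_true, List.contains_iff_mem]
  have key : ∀ {x y : List ℕ}, (∀ m ∈ x, m < 2 ^ 24) → (∀ m ∈ y, m < 2 ^ 24) → objF x = objF y →
      ∀ m ∈ x, m ∈ y := by
    intro x y hx hy e m hm
    have hm' : dec m ∈ objF x := by simp only [objF, List.mem_toFinset]; exact List.mem_map_of_mem hm
    rw [e] at hm'
    simp only [objF, List.mem_toFinset, List.mem_map] at hm'
    obtain ⟨n, hn, he⟩ := hm'
    exact dec_inj (hy n hn) (hx m hm) he ▸ hn
  exact ⟨key ha hb h, key hb ha h.symm⟩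

theorem sysFixed_iff {P : ℕ} (hv : validP P = true) {u : List ℕ} (hu : ∀ m ∈ u, m < 2 ^ 24) :
    toPerm P • objF u = objF u ↔ sysFixed P u = true := by
  rw [sysFixed, smul_objF hv]
  refine ⟨setEq_of_objF (fun m hm => ?_) hu, setEq_objF⟩
  obtain ⟨n, -, rfl⟩ := List.mem_map.1 hm
  rw [mimgB_eq]
  exact mimg_lt hv n

theorem ncard_fixed_family (F : Family) {P : ℕ} (hv : validP P = true) {k : Equiv.Perm GolayPt}
    (hk : k ∈ M24) {n : ℕ} (hn : F.tree.objs.countP (sysFixed P) = n) :
    {X | X ∈ F.sets ∧ (k * toPerm P * k⁻¹) • X = X}.ncard = n := by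
  rw [← hn, ← F.ncard_filter (q := fun X => toPerm P • X = X) (sysFixed P) (fun u hu => sysFixed_iff hv (STree.objs_lt hu)),
    ← Set.ncard_image_of_injective {X | X ∈ F.sets ∧ toPerm P • X = X} (MulAction.injective k)]
  congr 1
  ext X
  simp only [Set.mem_setOf_eq, Set.mem_image]
  constructor
  · rintro ⟨hX, he⟩
    refine ⟨k⁻¹ • X, ⟨F.smul_mem _ (inv_mem hk) X hX, ?_⟩, smul_inv_smul k X⟩
    rw [mul_smul, mul_smul, smul_eq_iff_eq_inv_smul] at he
    exact he
  · rintro ⟨Y, ⟨hY, he⟩, rfl⟩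
    exact ⟨F.smul_mem k hk Y hY, by rw [mul_smul, inv_smul_smul, mul_smul, he]⟩

theorem ncard_fixed_words {n : ℕ} {lit : List ℕ} (hlit : lit = codeList.filter fun m => pop 24 m == n)
    {P : ℕ} (hM : inM24 P = true) {k : Equiv.Perm GolayPt} (hk : k ∈ M24) {c : ℕ}
    (hc : (lit.filter (wordFixed P)).length = c) :
    {o | o ∈ wordsOfWeight (golayCode : Set (GolayPt → ZMod 2)) n ∧ (k * toPerm P * k⁻¹) • o = o}.ncard = c := by
  have hv := valid_of_inM24' hM
  have h := ncard_code_filter hlit (q := fun o => toPerm P • o = o ∧ o.card = n)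
    (fun m => wordFixed P (m &&& fullMask) && pop 24 m == n) fun m => ?_
  · rw [← hc, ← List.countP_eq_length_filter]
    have hcongr : lit.countP (wordFixed P) = lit.countP (fun m => wordFixed P (m &&& fullMask) && pop 24 m == n) := by
      refine List.countP_congr fun m hm => ?_
      rw [hlit, List.mem_filter, beq_iff_eq] at hm
      have : m &&& fullMask = m := by
        apply Nat.eq_of_testBit_eq
        intro i
        rw [Nat.testBit_and, testBit_fullMask]
        rcases Nat.lt_or_ge i 24 with hi | hi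
        · simp [hi]
        · rw [Nat.testBit_lt_two_pow (lt_of_lt_of_le (codeList_lt hm.1) (Nat.pow_le_pow_right (by norm_num) hi))]
          simp
      rw [this, hm.2]
      simp
    rw [hcongr, List.countP_eq_length_filter, ← h,
      ← Set.ncard_image_of_injective {s | s ∈ wordsOfWeight (golayCode : Set (GolayPt → ZMod 2)) n ∧
        (toPerm P • s = s ∧ s.card = n)} (MulAction.injective k)]
    congr 1
    have hmem : ∀ g ∈ M24, ∀ o ∈ wordsOfWeight (golayCode : Set (GolayPt → ZMod 2)) n,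
        g • o ∈ wordsOfWeight (golayCode : Set (GolayPt → ZMod 2)) n := fun g hg o ho =>
      ⟨smul_mem_supports hg ho.1, by rw [Finset.card_smul_finset]; exact ho.2⟩
    ext X
    simp only [Set.mem_setOf_eq, Set.mem_image]
    constructor
    · rintro ⟨hX, he⟩
      rw [mul_smul, mul_smul, smul_eq_iff_eq_inv_smul] at he
      exact ⟨k⁻¹ • X, ⟨hmem _ (inv_mem hk) X hX, he, by rw [Finset.card_smul_finset]; exact hX.2⟩,
        smul_inv_smul k X⟩
    · rintro ⟨Y, ⟨hY, he, -⟩, rfl⟩
      exact ⟨hmem k hk Y hY, by rw [mul_smul, inv_smul_smul, mul_smul, he]⟩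
  · have hd : dec (m &&& fullMask) = dec m := by rw [dec_and, dec_fullMask, Finset.inter_univ]
    rw [Bool.and_eq_true, beq_iff_eq, card_dec_eq_pop, wordFixed, beq_iff_eq]
    refine and_congr_left fun _ => ?_
    rw [← hd, smul_dec hv, mimg, ← mimgB_eq]
    refine ⟨dec_inj ?_ ?_, fun e => by rw [e]⟩
    · rw [mimgB_eq]; exact mimg_lt hv _
    · exact lt_of_le_of_lt Nat.and_le_right (by decide)

theorem octLit_eq_filter : octLit = codeList.filter fun m => pop 24 m == 8 := octList_eq_octLit.symm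

theorem dodLit_eq_filter : dodLit = codeList.filter fun m => pop 24 m == 12 := dodList_eq_dodLit.symm

theorem six_counts {g : Equiv.Perm GolayPt} (hg : g ∈ M24) (h3 : orderOf g = 3)
    (h6 : (fixSet g).card = 6) :
    {o | o ∈ octads ∧ g • o = o}.ncard = 21 ∧ {T | T ∈ trios ∧ g • T = T}.ncard = 15 ∧
    {S | S ∈ sextets ∧ g • S = S}.ncard = 16 ∧ {d | d ∈ dodecads ∧ g • d = d}.ncard = 20 := by
  obtain ⟨k, hk, rfl⟩ := conj_six hg h3 h6
  exact ⟨ncard_fixed_words octLit_eq_filter rep_checks.1 hk octads_fixed.1,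
    ncard_fixed_family trioFam valid_six hk trios_fixed_six,
    ncard_fixed_family sextFam valid_six hk sextets_fixed_six,
    ncard_fixed_words dodLit_eq_filter rep_checks.1 hk dodecads_fixed⟩

theorem free_counts {g : Equiv.Perm GolayPt} (hg : g ∈ M24) (h3 : orderOf g = 3)
    (h0 : ∀ p, g p ≠ p) :
    {S | S ∈ sextets ∧ g • S = S}.ncard = 7 ∧ {T | T ∈ trios ∧ g • T = T}.ncard = 15 := by
  obtain ⟨k, hk, rfl⟩ := conj_free hg h3 (Finset.card_eq_zero.2 (Finset.filter_eq_empty_iff.2 fun p _ => h0 p))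
  exact ⟨ncard_fixed_family sextFam valid_free hk sextets_fixed_free,
    ncard_fixed_family trioFam valid_free hk trios_fixed_free⟩

theorem inv_checks : inM24 invEight = true ∧ inM24 invFree = true :=
  ⟨Cfsg.Agent.S5394.R_chk.1, Cfsg.Agent.S5394.R_chk.2.1⟩

theorem eight_counts {g : Equiv.Perm GolayPt} (hg : g ∈ M24) (h2 : orderOf g = 2)
    (h8 : (fixSet g).card = 8) :
    {o | o ∈ octads ∧ g • o = o}.ncard = 71 ∧ {T | T ∈ trios ∧ g • T = T}.ncard = 99 ∧
    {S | S ∈ sextets ∧ g • S = S}.ncard = 91 := by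
  obtain ⟨k, hk, h | h⟩ := Cfsg.Agent.S5394.conj_rep hg h2
  · subst h
    exact ⟨ncard_fixed_words octLit_eq_filter inv_checks.1 hk octads_fixed.2.1,
      ncard_fixed_family trioFam (valid_of_inM24' inv_checks.1) hk trios_fixed_eight,
      ncard_fixed_family sextFam (valid_of_inM24' inv_checks.1) hk sextets_fixed_eight⟩
  · exfalso
    rw [← h, card_fixSet_conj] at h8
    have : fixSet (toPerm Cfsg.Agent.S5394.R1) = ∅ :=
      Finset.filter_eq_empty_iff.2 fun p _ => Cfsg.Agent.S5394.fix_R1 p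
    rw [this, Finset.card_empty] at h8
    omega

theorem inv_counts {g : Equiv.Perm GolayPt} (hg : g ∈ M24) (h2 : orderOf g = 2)
    (h0 : ∀ p, g p ≠ p) :
    {o | o ∈ octads ∧ g • o = o}.ncard = 15 ∧ {T | T ∈ trios ∧ g • T = T}.ncard = 75 ∧
    {S | S ∈ sextets ∧ g • S = S}.ncard = 51 := by
  obtain ⟨k, hk, h | h⟩ := Cfsg.Agent.S5394.conj_rep hg h2
  · exfalso
    subst h
    obtain ⟨p, hp⟩ : ∃ p : GolayPt, p ∈ dec 1217620 := ⟨pt 2, by decide +kernel⟩
    refine h0 (k p) ((Cfsg.Agent.S5394.fix_conj _).2 ?_)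
    rw [show k⁻¹ (k p) = p by simp, Cfsg.Agent.S5394.fix_R0]
    exact hp
  · subst h
    exact ⟨ncard_fixed_words octLit_eq_filter inv_checks.2 hk octads_fixed.2.2,
      ncard_fixed_family trioFam (valid_of_inM24' inv_checks.2) hk trios_fixed_inv,
      ncard_fixed_family sextFam (valid_of_inM24' inv_checks.2) hk sextets_fixed_inv⟩

end CfsgLib.Golay.Classes
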