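import Cfsg.Agent.Lib.Golay.Classes.FixCounts
import Cfsg.Agent.Lib.Golay.Systems.Sextets

/-!
The centralizer of an involution without fixed points.
-/

set_option autoImplicit false
set_option maxRecDepth 20000
set_option Elab.async false

namespace CfsgLib.Golay.Classes

open Cfsg CfsgLib.Golay.SylowTwo
open scoped Pointwise

/-- an involution without fixed points, in a position convenient for its centralizer -/
def freeRep : ℕ := 104149153821129901086249850554735617

/-- it is conjugated to the listed one by this element -/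
def freeConj : ℕ := 955609629391361554856830268711476491

/-- the octads fixed by it -/
def freeOcts : List ℕ := [416040, 1230376, 1351424, 2769128, 2890176, 3704512, 4415544, 4536592, 5350928, 6889680, 8536111, 8657159, 9471495, 11010247, 12656663]

/-- the tetrads of the sextet fixed by its centralizer -/
def freeSextet : List ℕ := [147496, 268544, 1082880, 2621632, 4268048, 8388615]

/-- generators of the levels -/
def freeGens0 : List ℕ := [58543220077583296633764971551260759, 375402347946655637141236835517868687]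

/-- generators of the levels -/
def freeGens1 : List ℕ := [963394861231240390838079102396270593, 959784233650421388760062734961903648]

/-- generators of the levels -/
def freeGens2 : List ℕ := [968667844843050810684516515685173280, 961079787467313937456055785353414688]

/-- the set of points in every fixed octad through a position -/
def tetAt (i : ℕ) : ℕ := (freeOcts.filter fun o => o.testBit i).foldl (fun a o => a &&& o) fullMask

/-- the first base mask: a point and its image -/
def freeF : ℕ := 2 ^ 23 ||| 2 ^ 2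

theorem free_rep_checks : inM24 freeRep = true ∧ inM24 freeConj = true ∧
    eqP (mulP freeConj invFree) (mulP freeRep freeConj) = true := by decide +kernel

theorem free_oct_checks : octLit.filter (wordFixed freeRep) = freeOcts ∨
    setEq (octLit.filter (wordFixed freeRep)) freeOcts = true := by decide +kernel

theorem free_tet_checks : ((List.range 24).all fun i => freeSextet.contains (tetAt i) && (tetAt i).testBit i) = true ∧
    (freeSextet.all fun m => decide (m < 16777216) && (List.range 24).any fun i => tetAt i == m) = true ∧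
    sextTree.objs.any (fun u => setEq u freeSextet) = true := by decide +kernel

theorem free_gen_checks : ((freeGens0 ++ freeGens1 ++ freeGens2).all fun P =>
      inM24 P && eqP (mulP P freeRep) (mulP freeRep P)) = true ∧
    ((freeGens1 ++ freeGens2).all fun P => fixes P freeF) = true := by decide +kernel

theorem free_chain : Lev.ok [] 0 ⟨23, [], freeGens0⟩ = true ∧
    chainOK [tetAt 23] freeF [⟨0, [tetAt 23], freeGens1⟩, ⟨3, [tetAt 23], freeGens2⟩] = true ∧
    chainProd freeF [⟨0, [tetAt 23], freeGens1⟩, ⟨3, [tetAt 23], freeGens2⟩] = 40 ∧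
    chainBot freeF [⟨0, [tetAt 23], freeGens1⟩, ⟨3, [tetAt 23], freeGens2⟩] = (2 ^ 23 ||| 2 ^ 2 ||| 2 ^ 0 ||| 2 ^ 3) ∧
    pop 24 (atom 0 [] 23) = 24 ∧ atom 0 [] 23 = fullMask := by decide +kernel

/-- the last group, as a list -/
def freeLast : List ℕ := trans6.filter fun P => eqP (mulP P freeRep) (mulP freeRep P)

theorem free_last_checks : freeLast.length = 8 ∧
    (freeLast.map fun P => (List.range 24).map (ap P)).Nodup ∧
    (freeLast.all fun P => inM24 P && fixes P (2 ^ 23 ||| 2 ^ 2 ||| 2 ^ 0 ||| 2 ^ 3)) = true ∧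
    (ap freeRep 23 == 2 && ap freeRep 2 == 23 && ap freeRep 0 == 1 && ap freeRep 3 == 5) = true ∧
    F6 = (2 ^ 23 ||| 2 ^ 0 ||| 2 ^ 1 ||| 2 ^ 2 ||| 2 ^ 3 ||| 2 ^ 5) := by decide +kernel

/-- the centralizer of the representative -/
noncomputable def freeC : Subgroup (Equiv.Perm GolayPt) :=
  M24 ⊓ Subgroup.centralizer {toPerm freeRep}

theorem mem_freeC {g : Equiv.Perm GolayPt} :
    g ∈ freeC ↔ g ∈ M24 ∧ g * toPerm freeRep = toPerm freeRep * g := by
  rw [freeC, Subgroup.mem_inf, Subgroup.mem_centralizer_singleton_iff]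

theorem valid_free_rep : validP freeRep = true := valid_of_inM24' free_rep_checks.1

theorem mem_freeC_of_check {P : ℕ} (h1 : inM24 P = true) (h2 : eqP (mulP P freeRep) (mulP freeRep P) = true) :
    toPerm P ∈ freeC :=
  mem_freeC.2 ⟨toPerm_mem_M24 h1, by
    rw [← toPerm_mulP (valid_of_inM24' h1) valid_free_rep, ← toPerm_mulP valid_free_rep (valid_of_inM24' h1)]
    exact toPerm_eq_of_eqP (validP_mulP (valid_of_inM24' h1) valid_free_rep)
      (validP_mulP valid_free_rep (valid_of_inM24' h1)) h2⟩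

theorem fixed_octad_iff {o : Finset GolayPt} :
    (o ∈ octads ∧ toPerm freeRep • o = o) ↔ ∃ m ∈ freeOcts, dec m = o := by
  have hiff : ∀ m, m ∈ octLit.filter (wordFixed freeRep) ↔ m ∈ freeOcts := by
    intro m
    rcases free_oct_checks with h | h
    · rw [h]
    · simp only [setEq, Bool.and_eq_true, List.all_eq_true, List.contains_iff_mem] at h
      exact ⟨h.1 m, h.2 m⟩
  constructor
  · rintro ⟨ho, he⟩
    obtain ⟨m, hm, -, rfl⟩ := octad_mask ho
    refine ⟨m, (hiff m).1 (List.mem_filter.2 ⟨hm, ?_⟩), rfl⟩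
    rw [smul_dec valid_free_rep] at he
    rw [wordFixed, beq_iff_eq, mimgB_eq]
    exact dec_inj (mimg_lt valid_free_rep m) (codeList_lt (octLit_sub m hm)) he
  · rintro ⟨m, hm, rfl⟩
    obtain ⟨hlit, hw⟩ := List.mem_filter.1 ((hiff m).2 hm)
    obtain ⟨hc, h8⟩ := mem_octLit_iff.1 hlit
    refine ⟨dec_mem_octads (inC_iff_mem_codeList.2 hc) h8, ?_⟩
    rw [smul_dec valid_free_rep]
    rw [wordFixed, beq_iff_eq, mimgB_eq] at hw
    exact congrArg dec hw

theorem testBit_foldl_and (l : List ℕ) : ∀ (a j : ℕ),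
    (l.foldl (fun a o => a &&& o) a).testBit j = true ↔ a.testBit j = true ∧ ∀ o ∈ l, o.testBit j = true := by
  induction l with
  | nil => intro a j; simp
  | cons x l ih =>
    intro a j
    rw [List.foldl_cons, ih, Nat.testBit_and, Bool.and_eq_true]
    simp [and_assoc]

theorem mem_tetAt {p q : GolayPt} : p ∈ dec (tetAt (idx q)) ↔
    ∀ o ∈ octads, toPerm freeRep • o = o → q ∈ o → p ∈ o := by
  rw [mem_dec, tetAt, testBit_foldl_and, testBit_fullMask, decide_eq_true (idx_lt p)]
  simp only [true_and, List.mem_filter]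
  constructor
  · intro h o ho he hq
    obtain ⟨m, hm, rfl⟩ := fixed_octad_iff.1 ⟨ho, he⟩
    exact mem_dec.2 (h m ⟨hm, mem_dec.1 hq⟩)
  · rintro h m ⟨hm, hb⟩
    obtain ⟨ho, he⟩ := fixed_octad_iff.2 ⟨m, hm, rfl⟩
    exact mem_dec.1 (h _ ho he (mem_dec.2 hb))

theorem smul_tetAt {g : Equiv.Perm GolayPt} (hg : g ∈ freeC) (q : GolayPt) :
    g • dec (tetAt (idx q)) = dec (tetAt (idx (g q))) := by
  have key : ∀ k ∈ freeC, ∀ o ∈ octads, toPerm freeRep • o = o →
      k • o ∈ octads ∧ toPerm freeRep • k • o = k • o := fun k hk o ho he =>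
    ⟨smul_mem_octads (mem_freeC.1 hk).1 ho, by rw [← mul_smul, ← (mem_freeC.1 hk).2, mul_smul, he]⟩
  ext p
  rw [Finset.mem_smul_finset]
  constructor
  · rintro ⟨p', hp', rfl⟩
    rw [mem_tetAt] at hp' ⊢
    intro o ho he hq
    obtain ⟨ho', he'⟩ := key g⁻¹ (inv_mem hg) o ho he
    have := hp' _ ho' he' (by
      have h2 := Finset.smul_mem_smul_finset (a := g⁻¹) hq
      simpa using h2)
    have h3 := Finset.smul_mem_smul_finset (a := g) this
    rwa [smul_inv_smul] at h3
  · intro hp
    refine ⟨g⁻¹ p, ?_, by simp⟩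
    rw [mem_tetAt] at hp ⊢
    intro o ho he hq
    obtain ⟨ho', he'⟩ := key g hg o ho he
    have h3 := Finset.smul_mem_smul_finset (a := g⁻¹) (hp _ ho' he' (Finset.smul_mem_smul_finset hq))
    rwa [inv_smul_smul] at h3

theorem objF_freeSextet_mem : objF freeSextet ∈ sextets := by
  obtain ⟨u, hu, he⟩ := List.any_eq_true.1 free_tet_checks.2.2
  rw [← setEq_objF he]
  exact (objF_mem_sextets hu).1

theorem tetAt_mem {q : GolayPt} : dec (tetAt (idx q)) ∈ objF freeSextet := by
  have h := List.all_eq_true.1 free_tet_checks.1 (idx q) (List.mem_range.2 (idx_lt q))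
  rw [Bool.and_eq_true, List.contains_iff_mem] at h
  simp only [objF, List.mem_toFinset]
  exact List.mem_map_of_mem h.1

theorem smul_freeSextet {g : Equiv.Perm GolayPt} (hg : g ∈ freeC) : g • objF freeSextet = objF freeSextet := by
  refine Finset.eq_of_subset_of_card_le (fun X hX => ?_) (by rw [Finset.card_smul_finset])
  obtain ⟨Y, hY, rfl⟩ := Finset.mem_smul_finset.1 hX
  simp only [objF, List.mem_toFinset, List.mem_map] at hY
  obtain ⟨m, hm, rfl⟩ := hY
  have h := List.all_eq_true.1 free_tet_checks.2.1 m hm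
  simp only [Bool.and_eq_true, List.any_eq_true, List.mem_range, beq_iff_eq] at h
  obtain ⟨i, hi, he⟩ := h.2
  have h2 := smul_tetAt hg (pt i)
  rw [idx_pt i hi, he] at h2
  rw [h2]
  exact tetAt_mem

theorem rep_mem_freeC : toPerm freeRep ∈ freeC := mem_freeC.2 ⟨toPerm_mem_M24 free_rep_checks.1, rfl⟩

theorem fixH_image {F i j : ℕ} (hi : i < 24) (hij : ap freeRep i = j) (hF : F.testBit i = true) :
    fixH freeC F = fixH freeC (F ||| 2 ^ j) := by
  have hj : j < 24 := hij ▸ validP_lt valid_free_rep hi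
  ext g
  simp only [mem_fixH]
  refine ⟨fun ⟨hg, hf⟩ => ⟨hg, fun p hp => ?_⟩, fun ⟨hg, hf⟩ => ⟨hg, fun p hp => hf p (mem_dec_or.2 (Or.inl hp))⟩⟩
  rcases mem_dec_or.1 hp with hp | hp
  · exact hf p hp
  · rw [(mem_dec_two_pow hj).1 hp]
    have hpi : toPerm freeRep (pt i) = pt j := by rw [toPerm_apply valid_free_rep, idx_pt i hi, hij]
    rw [← hpi]
    calc g (toPerm freeRep (pt i)) = toPerm freeRep (g (pt i)) := Equiv.ext_iff.1 (mem_freeC.1 hg).2 (pt i)
      _ = _ := by rw [hf (pt i) (by rw [mem_dec, idx_pt i hi]; exact hF)]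

theorem natCard_last : Nat.card (fixH freeC (2 ^ 23 ||| 2 ^ 2 ||| 2 ^ 0 ||| 2 ^ 3)) = 8 := by
  obtain ⟨hlen, hnd, hall, hap, hF6⟩ := free_last_checks
  simp only [Bool.and_eq_true, beq_iff_eq] at hap
  obtain ⟨⟨⟨h23, -⟩, h0⟩, h3⟩ := hap
  have hset : (fixH freeC (2 ^ 23 ||| 2 ^ 2 ||| 2 ^ 0 ||| 2 ^ 3) : Set (Equiv.Perm GolayPt)) =
      toPerm '' {P | P ∈ freeLast} := by
    ext g
    constructor
    · intro hg
      have hg6 : g ∈ fixH M24 F6 := by
        have hg' : g ∈ fixH freeC (2 ^ 23 ||| 2 ^ 2 ||| 2 ^ 0 ||| 2 ^ 3 ||| 2 ^ 1 ||| 2 ^ 5) := by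
          rw [← fixH_image (i := 3) (by norm_num) h3 (by decide +kernel),
            ← fixH_image (i := 0) (by norm_num) h0 (by decide +kernel)]
          exact hg
        obtain ⟨h1, h2⟩ := mem_fixH.1 hg'
        refine mem_fixH.2 ⟨(mem_freeC.1 h1).1, ?_⟩
        rw [show F6 = (2 ^ 23 ||| 2 ^ 2 ||| 2 ^ 0 ||| 2 ^ 3 ||| 2 ^ 1 ||| 2 ^ 5) from hF6.trans (by decide +kernel)]
        exact h2
      obtain ⟨P, hP, hv, rfl⟩ := mem_fixF6 hg6
      refine ⟨P, List.mem_filter.2 ⟨hP, eqP_of_toPerm_eq (validP_mulP hv valid_free_rep)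
        (validP_mulP valid_free_rep hv) ?_⟩, rfl⟩
      rw [toPerm_mulP hv valid_free_rep, toPerm_mulP valid_free_rep hv]
      exact (mem_freeC.1 (mem_fixH.1 hg).1).2
    · rintro ⟨P, hP, rfl⟩
      have h := List.all_eq_true.1 hall P hP
      rw [Bool.and_eq_true] at h
      exact mem_fixH.2 ⟨mem_freeC_of_check h.1 (List.mem_filter.1 hP).2,
        fun p hp => fixes_apply (valid_of_inM24' h.1) h.2 hp⟩
  have hv : ∀ P ∈ freeLast, validP P = true := fun P hP => by
    have h := List.all_eq_true.1 hall P hP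
    rw [Bool.and_eq_true] at h
    exact valid_of_inM24' h.1
  have hinj : Set.InjOn toPerm {P | P ∈ freeLast} := fun a ha b hb e => by
    refine List.inj_on_of_nodup_map hnd ha hb (List.map_inj_left.2 fun i hi => ?_)
    have hi' := List.mem_range.1 hi
    have h1 := idx_toPerm (hv a ha) (pt i)
    rw [e, idx_toPerm (hv b hb) (pt i), idx_pt i hi'] at h1
    exact h1.symm
  rw [← SetLike.coe_sort_coe, hset, Nat.card_coe_set_eq, hinj.ncard_image, ← hlen]
  rw [← List.toFinset_card_of_nodup (List.Nodup.of_map _ hnd), ← Set.ncard_coe_finset]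
  congr 1

theorem carries_zero : Carries freeC [] freeGens0 := by
  refine ⟨inf_le_left, fun o ho => absurd ho List.not_mem_nil, fun P hP => ?_⟩
  have h := List.all_eq_true.1 free_gen_checks.1 P (List.mem_append_left _ (List.mem_append_left _ hP))
  rw [Bool.and_eq_true] at h
  exact mem_freeC_of_check h.1 h.2

theorem natCard_freeC : Nat.card freeC = 7680 := by
  obtain ⟨hok0, hok, hprod, hbot, hpop, -⟩ := free_chain
  obtain ⟨-, -, -, hap, -⟩ := free_last_checks
  simp only [Bool.and_eq_true, beq_iff_eq] at hap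
  set H := fixH freeC freeF with hH
  have hpres : ∀ o ∈ [tetAt 23], ∀ g ∈ H, g • dec o = dec o := by
    intro o ho g hg
    have h2 := smul_tetAt (mem_fixH.1 hg).1 (pt 23)
    rw [(mem_fixH.1 hg).2 (pt 23) (mem_dec.2 (by decide +kernel)), idx_pt 23 (by norm_num)] at h2
    rw [List.mem_singleton.1 ho]
    exact h2
  have hle : H ≤ M24 := fun g hg => (mem_freeC.1 (mem_fixH.1 hg).1).1
  have hC : ∀ L ∈ ([⟨0, [tetAt 23], freeGens1⟩, ⟨3, [tetAt 23], freeGens2⟩] : List Lev),
      Carries H [tetAt 23] L.gens := by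
    intro L hL
    refine ⟨hle, hpres, fun P hP => ?_⟩
    have hP' : P ∈ freeGens1 ++ freeGens2 := by
      simp only [List.mem_cons, List.not_mem_nil, or_false] at hL
      rcases hL with rfl | rfl
      · exact List.mem_append_left _ hP
      · exact List.mem_append_right _ hP
    have hP'' : P ∈ freeGens0 ++ freeGens1 ++ freeGens2 := by
      rw [List.append_assoc]; exact List.mem_append_right _ hP'
    have h := List.all_eq_true.1 free_gen_checks.1 P hP''
    rw [Bool.and_eq_true] at h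
    exact mem_fixH.2 ⟨mem_freeC_of_check h.1 h.2, fun p hp =>
      fixes_apply (valid_of_inM24' h.1) (List.all_eq_true.1 free_gen_checks.2 P hP') hp⟩
  have hsame : ∀ F, F &&& freeF = freeF → fixH H F = fixH freeC F := by
    intro F hF
    ext g
    simp only [hH, mem_fixH]
    refine ⟨fun h => ⟨h.1.1, h.2⟩, fun h => ⟨⟨h.1, fun p hp => h.2 p ?_⟩, h.2⟩⟩
    rw [← hF, dec_and] at hp
    exact (Finset.mem_inter.1 hp).1
  have h1 := card_chain _ freeF hC hok
  rw [hprod, hbot, hsame _ (by decide +kernel), hsame _ (by decide +kernel), natCard_last] at h1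
  have h0 := card_level (L := ⟨23, [], freeGens0⟩) carries_zero hok0
  rw [fixH_zero] at h0
  rw [h0, hpop, show (0 ||| 2 ^ 23 : ℕ) = 2 ^ 23 by decide +kernel,
    fixH_image (i := 23) (by norm_num) hap.1.1.1 (by decide +kernel)]
  rw [show fixH freeC (2 ^ 23 ||| 2 ^ 2) = fixH freeC freeF from rfl, h1]

theorem freeC_trans (p : GolayPt) : ∃ g ∈ freeC, g (pt 23) = p := by
  have hfull : atom 0 [] 23 = fullMask := free_chain.2.2.2.2.2
  obtain ⟨g, hg, he⟩ := (orbit_level (L := ⟨23, [], freeGens0⟩) carries_zero free_chain.1 p).2 (by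
    show p ∈ dec (atom 0 [] 23)
    rw [hfull, dec_fullMask]; exact Finset.mem_univ p)
  exact ⟨g, (mem_fixH.1 hg).1, he⟩

/-- the centralizer of any involution without fixed points -/
theorem free_centralizer {t : Equiv.Perm GolayPt} (ht : t ∈ M24) (h2 : orderOf t = 2) (h0 : ∀ p, t p ≠ p) :
    Nat.card {c : Equiv.Perm GolayPt // c ∈ M24 ∧ c * t = t * c} = 7680 ∧
    (∀ p q : GolayPt, ∃ c ∈ M24, c * t = t * c ∧ c p = q) ∧
    ∃ S ∈ sextets, t • S = S ∧ ∀ c ∈ M24, c * t = t * c → c • S = S := by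
  obtain ⟨k, hk, hkt⟩ : ∃ k ∈ M24, k * toPerm freeRep * k⁻¹ = t := by
    obtain ⟨k, hk, h | h⟩ := Cfsg.Agent.S5394.conj_rep ht h2
    · exfalso
      subst h
      obtain ⟨p, hp⟩ : ∃ p : GolayPt, p ∈ dec 1217620 := ⟨pt 2, by decide +kernel⟩
      refine h0 (k p) ((Cfsg.Agent.S5394.fix_conj _).2 ?_)
      rw [show k⁻¹ (k p) = p by simp, Cfsg.Agent.S5394.fix_R0]
      exact hp
    · have hv0 := valid_of_inM24' inv_checks.2
      have hvk := valid_of_inM24' free_rep_checks.2.1
      have hkk := toPerm_eq_of_eqP (validP_mulP hvk hv0) (validP_mulP valid_free_rep hvk) free_rep_checks.2.2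
      rw [toPerm_mulP hvk hv0, toPerm_mulP valid_free_rep hvk] at hkk
      refine ⟨k * (toPerm freeConj)⁻¹, mul_mem hk (inv_mem (toPerm_mem_M24 free_rep_checks.2.1)), ?_⟩
      rw [← h, show toPerm Cfsg.Agent.S5394.R1 = toPerm invFree from rfl]
      calc k * (toPerm freeConj)⁻¹ * toPerm freeRep * (k * (toPerm freeConj)⁻¹)⁻¹
          = k * ((toPerm freeConj)⁻¹ * (toPerm freeRep * toPerm freeConj)) * k⁻¹ := by group
        _ = _ := by rw [← hkk, inv_mul_cancel_left]
  have hiff : ∀ c, c ∈ freeC ↔ k * c * k⁻¹ ∈ M24 ∧ k * c * k⁻¹ * t = t * (k * c * k⁻¹) := by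
    intro c
    rw [mem_freeC, ← hkt]
    refine ⟨fun h => ⟨mul_mem (mul_mem hk h.1) (inv_mem hk), ?_⟩, fun h => ⟨?_, ?_⟩⟩
    · calc k * c * k⁻¹ * (k * toPerm freeRep * k⁻¹) = k * (c * toPerm freeRep) * k⁻¹ := by group
        _ = _ := by rw [h.2]; group
    · have := mul_mem (mul_mem (inv_mem hk) h.1) hk
      simpa [mul_assoc] using this
    · calc c * toPerm freeRep = k⁻¹ * (k * c * k⁻¹ * (k * toPerm freeRep * k⁻¹)) * k := by group
        _ = _ := by rw [h.2]; group
  refine ⟨?_, fun p q => ?_, k • objF freeSextet, smul_mem_sextets hk objF_freeSextet_mem, ?_, fun c hc hct => ?_⟩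
  · rw [← natCard_freeC]
    refine (Nat.card_congr ((MulAut.conj k).toEquiv.subtypeEquiv (p := fun c => c ∈ freeC)
      (q := fun c => c ∈ M24 ∧ c * t = t * c) fun c => ?_)).symm
    exact hiff c
  · obtain ⟨a, ha, hap⟩ := freeC_trans (k⁻¹ p)
    obtain ⟨b, hb, hbq⟩ := freeC_trans (k⁻¹ q)
    obtain ⟨h1, h2'⟩ := (hiff (b * a⁻¹)).1 (mul_mem hb (inv_mem ha))
    refine ⟨_, h1, h2', ?_⟩
    simp only [Equiv.Perm.mul_apply]
    rw [← hap, Equiv.Perm.coe_inv, Equiv.symm_apply_apply, hbq]
    simp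
  · rw [← hkt, mul_smul, inv_smul_smul, mul_smul, smul_freeSextet rep_mem_freeC]
  · have hc' : k⁻¹ * c * k ∈ freeC := (hiff _).2 (by
      rw [show k * (k⁻¹ * c * k) * k⁻¹ = c by group]; exact ⟨hc, hct⟩)
    have := smul_freeSextet hc'
    rw [mul_smul, mul_smul, inv_smul_eq_iff] at this
    exact this

end CfsgLib.Golay.Classes
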