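import Cfsg.Agent.Lib.Golay.Classes.SevenData
import Cfsg.Agent.Lib.Golay.Classes.FixCounts
import Cfsg.Agent.Lib.Golay.Systems.Families

/-!
The normalizer of a subgroup of order seven.
-/

set_option autoImplicit false
set_option maxRecDepth 20000
set_option Elab.async false

namespace CfsgLib.Golay.Classes.Seven

open Cfsg CfsgLib.Golay.SylowTwo
open scoped Pointwise

/-- an element of order seven -/
def sevX : ℕ := 568694095673325049268323181693780650

/-- its fixed points -/
def sevFix : List ℕ := [6, 9, 22]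

/-- its fixed points as a mask -/
def sevMask : ℕ := 4194880

/-- the octads fixed by it -/
def sevOcts : List ℕ := [2754059, 5329044, 8694112]

/-- representatives of its cycles -/
def sevReps : List ℕ := [6, 9, 22, 0, 2, 5]

/-- positions written as images of representatives -/
def sevDom : List (ℕ × ℕ) := [(3, 0), (3, 4), (4, 0), (3, 6), (4, 6), (5, 0), (0, 0), (4, 3), (5, 6), (1, 0), (3, 1), (5, 2), (4, 5), (5, 4), (4, 2), (5, 1), (4, 1), (3, 3), (5, 5), (3, 2), (4, 4), (3, 5), (2, 0), (5, 3)]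

/-- centralizing elements inducing all permutations of the fixed points -/
def sevOuter : List ℕ := [984818244535754528103549039458486304, 714434515012820519110593887595552386, 303060492517830300171257030097880247, 552172686794040210742632356159573634, 70710267566703062043555160327043255, 838976371975780325593442071195797521]

/-- elements fixing the fixed points and carrying the element to a power -/
def sevInner : List (ℕ × List ℕ) := [(1, [984818244535754528103549039458486304, 237040653512653698611192162338525505, 485529607618101772485487756954997283, 568694095673325049268323181693780650, 361273665766991890959522281013484561, 776253497578892553667177351267825779, 652340633645666095226317065603297909]), (2, [776955782742406190616652240959226176, 485485233580510726601693883979641505, 569348212822123923371835277835274243, 360914930434506099203318836273199722, 651770185034239691645353936350957617, 237126856616391933768595430872981043, 984349197101207023114119232059117685]), (4, [485617087966671117097789314174590560,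 361572819548409646918623138797324385, 652510483622538405589753408107690307, 983946094191344764742164542484697642, 777039444238913367542700032150049457, 568965385242938369493624462062039091, 236299083520569916936913940554006549])]

/-- the inner elements for an exponent -/
def innerFor (k : ℕ) : List ℕ := ((sevInner.filter fun t => t.1 == k).map fun t => t.2).flatten

/-- the centralizer as a list -/
def sevC : List ℕ := sevOuter.flatMap fun P => (innerFor 1).map fun Q => mulP P Q

/-- the normalizer as a list -/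
def sevN : List ℕ := sevOuter.flatMap fun P => (innerFor 1 ++ innerFor 2 ++ innerFor 4).map fun Q => mulP P Q

theorem sev_checks : inM24 sevX = true ∧ eqP (powP sevX 7) idP = true ∧ eqP sevX idP = false ∧
    ((List.range 24).all fun i => (ap sevX i == i) == sevFix.contains i) = true ∧
    (List.range 24).all (fun i => sevMask.testBit i == sevFix.contains i) = true := by decide +kernel

theorem sev_oct_checks : setEq (octLit.filter (wordFixed sevX)) sevOcts = true ∧
    (sevOcts.all fun o => decide (o < 16777216) && sevFix.any (fun i => o.testBit i) &&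
      sevFix.all (fun i => !o.testBit i || sevOcts.all fun o' => !o'.testBit i || o' == o)) = true ∧
    (sevFix.all fun i => decide (i < 24) && sevOcts.any fun o => o.testBit i) = true ∧
    trioTree.objs.any (fun u => setEq u sevOcts) = true := by decide +kernel

theorem sev_outer_checks : (sevOuter.all fun P => inM24 P && eqP (mulP P sevX) (mulP sevX P)) = true ∧
    (sevFix.all fun a => sevFix.all fun b => sevFix.all fun c => a == b || a == c || b == c ||
      sevOuter.any fun P => sevFix.map (ap P) == [a, b, c]) = true ∧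
    sevFix.length = 3 ∧ sevFix.Nodup := by decide +kernel

theorem sev_pow1 : powP sevX 1 = sevPow1 := by decide +kernel

theorem sev_inner_cands1 :
    conjOK sevMask sevOcts sevX sevPow1 sevReps sevDom sevCand1 = true := by decide +kernel

theorem sev_inner_check1 :
    (sevCand1.all fun P => validP P && (!inM24 P || (innerFor 1).contains P)) = true := by decide +kernel

theorem sev_pow2 : powP sevX 2 = sevPow2 := by decide +kernel

theorem sev_inner_cands2 :
    conjOK sevMask sevOcts sevX sevPow2 sevReps sevDom sevCand2 = true := by decide +kernel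

theorem sev_inner_check2 :
    (sevCand2.all fun P => validP P && (!inM24 P || (innerFor 2).contains P)) = true := by decide +kernel

theorem sev_pow3 : powP sevX 3 = sevPow3 := by decide +kernel

theorem sev_inner_cands3 :
    conjOK sevMask sevOcts sevX sevPow3 sevReps sevDom sevCand3 = true := by decide +kernel

theorem sev_inner_check3 :
    (sevCand3.all fun P => validP P && (!inM24 P || (innerFor 3).contains P)) = true := by decide +kernel

theorem sev_pow4 : powP sevX 4 = sevPow4 := by decide +kernel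

theorem sev_inner_cands4 :
    conjOK sevMask sevOcts sevX sevPow4 sevReps sevDom sevCand4 = true := by decide +kernel

theorem sev_inner_check4 :
    (sevCand4.all fun P => validP P && (!inM24 P || (innerFor 4).contains P)) = true := by decide +kernel

theorem sev_pow5 : powP sevX 5 = sevPow5 := by decide +kernel

theorem sev_inner_cands5 :
    conjOK sevMask sevOcts sevX sevPow5 sevReps sevDom sevCand5 = true := by decide +kernel

theorem sev_inner_check5 :
    (sevCand5.all fun P => validP P && (!inM24 P || (innerFor 5).contains P)) = true := by decide +kernel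

theorem sev_pow6 : powP sevX 6 = sevPow6 := by decide +kernel

theorem sev_inner_cands6 :
    conjOK sevMask sevOcts sevX sevPow6 sevReps sevDom sevCand6 = true := by decide +kernel

theorem sev_inner_check6 :
    (sevCand6.all fun P => validP P && (!inM24 P || (innerFor 6).contains P)) = true := by decide +kernel

theorem sev_inner_ok : ∀ k, k ∈ [1, 2, 3, 4, 5, 6] → ∃ cand : List ℕ,
    conjOK sevMask sevOcts sevX (powP sevX k) sevReps sevDom cand = true ∧
    (cand.all fun P => validP P && (!inM24 P || (innerFor k).contains P)) = true := by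
  intro k hk
  simp only [List.mem_cons, List.not_mem_nil, or_false] at hk
  rcases hk with rfl | rfl | rfl | rfl | rfl | rfl
  · exact ⟨_, sev_pow1 ▸ sev_inner_cands1, sev_inner_check1⟩
  · exact ⟨_, sev_pow2 ▸ sev_inner_cands2, sev_inner_check2⟩
  · exact ⟨_, sev_pow3 ▸ sev_inner_cands3, sev_inner_check3⟩
  · exact ⟨_, sev_pow4 ▸ sev_inner_cands4, sev_inner_check4⟩
  · exact ⟨_, sev_pow5 ▸ sev_inner_cands5, sev_inner_check5⟩
  · exact ⟨_, sev_pow6 ▸ sev_inner_cands6, sev_inner_check6⟩

theorem sev_inner_conj : ([1, 2, 4].all fun k => (innerFor k).all fun Q =>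
    inM24 Q && eqP (mulP Q sevX) (mulP (powP sevX k) Q)) = true := by decide +kernel

theorem sev_inner_empty : innerFor 3 = [] ∧ innerFor 5 = [] ∧ innerFor 6 = [] := by decide +kernel

theorem sev_list_checks : sevC.length = 42 ∧ sevN.length = 126 ∧
    (sevN.map fun P => (List.range 24).map (ap P)).Nodup ∧
    (sevC.map fun P => (List.range 24).map (ap P)).Nodup ∧
    (sevC.any fun P => sevC.any fun Q => !eqP (mulP P Q) (mulP Q P)) = true := by decide +kernel

attribute [local irreducible] idP toPerm mulP validP powP sevX sevOuter innerFor octTree trioTree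

theorem valid_sev : validP sevX = true := valid_of_inM24' sev_checks.1

theorem orderOf_sev : orderOf (toPerm sevX) = 7 := by
  haveI : Fact (Nat.Prime 7) := ⟨by norm_num⟩
  obtain ⟨hM, h7, h1, -⟩ := sev_checks
  obtain ⟨hv, he⟩ := toPerm_powP valid_sev 7
  refine orderOf_eq_prime ?_ fun h => ?_
  · rw [← he, toPerm_eq_of_eqP hv validP_idP h7, toPerm_idP]
  · rw [eqP_of_toPerm_eq valid_sev validP_idP (h.trans toPerm_idP.symm)] at h1
    exact Bool.noConfusion h1

/-- the fixed octads -/
theorem sev_fixed_octad {o : Finset GolayPt} (ho : o ∈ octads) (he : toPerm sevX • o = o) :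
    ∃ m ∈ sevOcts, dec m = o := by
  obtain ⟨m, hm, -, rfl⟩ := octad_mask ho
  have h := sev_oct_checks.1
  simp only [setEq, Bool.and_eq_true, List.all_eq_true, List.contains_iff_mem] at h
  refine ⟨m, h.1 m (List.mem_filter.2 ⟨hm, ?_⟩), rfl⟩
  rw [smul_dec valid_sev] at he
  rw [wordFixed, beq_iff_eq, mimgB_eq]
  exact dec_inj (mimg_lt valid_sev m) (codeList_lt (octLit_sub m hm)) he

theorem sev_octs_fixed {m : ℕ} (hm : m ∈ sevOcts) : dec m ∈ octads ∧ toPerm sevX • dec m = dec m := by
  have h := sev_oct_checks.1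
  simp only [setEq, Bool.and_eq_true, List.all_eq_true, List.contains_iff_mem] at h
  obtain ⟨hlit, hw⟩ := List.mem_filter.1 (h.2 m hm)
  obtain ⟨hc, h8⟩ := mem_octLit_iff.1 hlit
  refine ⟨dec_mem_octads (inC_iff_mem_codeList.2 hc) h8, ?_⟩
  rw [smul_dec valid_sev]
  rw [wordFixed, beq_iff_eq, mimgB_eq] at hw
  exact congrArg dec hw

/-- elements carrying the element to a power map fixed octads to fixed octads -/
theorem smul_fixed {g : Equiv.Perm GolayPt} (hg : g ∈ M24) {k : ℕ} (hk : k % 7 ≠ 0)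
    (hgx : g * toPerm sevX = toPerm sevX ^ k * g) {m : ℕ} (hm : m ∈ sevOcts) :
    ∃ m' ∈ sevOcts, dec m' = g • dec m := by
  obtain ⟨ho, he⟩ := sev_octs_fixed hm
  refine sev_fixed_octad (smul_mem_octads hg ho) ?_
  have hfix : toPerm sevX ^ k • g • dec m = g • dec m := by rw [← mul_smul, ← hgx, mul_smul, he]
  have hgen : toPerm sevX ∈ Subgroup.zpowers (toPerm sevX ^ k) := by
    rw [mem_zpowers_pow_iff, orderOf_sev]
    exact ((Nat.Prime.coprime_iff_not_dvd (by norm_num)).2 fun h => hk (Nat.mod_eq_zero_of_dvd h)).symm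
  obtain ⟨j, hj⟩ := hgen
  have : toPerm sevX ^ k ∈ MulAction.stabilizer (Equiv.Perm GolayPt) (g • dec m) := hfix
  exact MulAction.mem_stabilizer_iff.1 (hj ▸ zpow_mem this j)

theorem sev_fix_iff {p : GolayPt} : toPerm sevX p = p ↔ idx p ∈ sevFix := by
  have h := List.all_eq_true.1 sev_checks.2.2.2.1 (idx p) (List.mem_range.2 (idx_lt p))
  rw [beq_iff_eq, Bool.eq_iff_iff, beq_iff_eq, List.contains_iff_mem] at h
  rw [← h, ← idx_injective.eq_iff, idx_toPerm valid_sev]

theorem smul_fix_point {g : Equiv.Perm GolayPt} {k : ℕ}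
    (hgx : g * toPerm sevX = toPerm sevX ^ k * g) (hk : k % 7 ≠ 0) {a : ℕ} (ha : a ∈ sevFix) :
    idx (g (pt a)) ∈ sevFix := by
  have ha' : a < 24 := by
    have := List.all_eq_true.1 sev_oct_checks.2.2.1 a ha
    rw [Bool.and_eq_true, decide_eq_true_eq] at this
    exact this.1
  have h1 : (toPerm sevX ^ k) (g (pt a)) = g (pt a) := by
    have h := Equiv.ext_iff.1 hgx (pt a)
    simp only [Equiv.Perm.mul_apply] at h
    rw [sev_fix_iff.2 (show idx (pt a) ∈ sevFix by rw [idx_pt a ha']; exact ha)] at h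
    exact h.symm
  refine sev_fix_iff.1 ?_
  have hgen : toPerm sevX ∈ Subgroup.zpowers (toPerm sevX ^ k) := by
    rw [mem_zpowers_pow_iff, orderOf_sev]
    exact ((Nat.Prime.coprime_iff_not_dvd (by norm_num)).2 fun h => hk (Nat.mod_eq_zero_of_dvd h)).symm
  obtain ⟨j, hj⟩ := hgen
  rw [← hj]
  exact Function.IsFixedPt.perm_zpow h1 j

theorem mem_inner {g : Equiv.Perm GolayPt} (hg : g ∈ M24) {k : ℕ} (hk : 1 ≤ k ∧ k ≤ 6)
    (hgx : g * toPerm sevX = toPerm sevX ^ k * g) (hfix : ∀ i ∈ sevFix, g (pt i) = pt i) :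
    ∃ P ∈ innerFor k, g = toPerm P := by
  let H : Subgroup (Equiv.Perm GolayPt) :=
    M24 ⊓ ⨅ o ∈ sevOcts, MulAction.stabilizer (Equiv.Perm GolayPt) (dec o)
  obtain ⟨cand, hok, hcand⟩ := sev_inner_ok k (by
    simp only [List.mem_cons, List.not_mem_nil, or_false]
    omega)
  obtain ⟨-, hallo, -, -⟩ := sev_oct_checks
  suffices h : ∃ P ∈ cand, g = toPerm P by
    obtain ⟨P, hP, rfl⟩ := h
    refine ⟨P, ?_, rfl⟩
    have h2 := List.all_eq_true.1 hcand P hP
    rw [Bool.and_eq_true] at h2
    obtain ⟨hvP, h2⟩ := h2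
    rw [inM24_of_mem hvP hg, Bool.not_true, Bool.false_or, List.contains_iff_mem] at h2
    exact h2
  refine eq_of_conjOK (H := H) inf_le_left (fun o ho => ⟨?_, fun a ha => ?_⟩) hok
    (mem_fixH.2 ⟨⟨hg, ?_⟩, ?_⟩) (by rw [(toPerm_powP valid_sev k).2]; exact hgx)
  · have := List.all_eq_true.1 hallo o ho
    simp only [Bool.and_eq_true, decide_eq_true_eq] at this
    exact this.1.1
  · exact MulAction.mem_stabilizer_iff.1 (Subgroup.mem_iInf.1 (Subgroup.mem_iInf.1 ha.2 o) ho)
  · refine Subgroup.mem_iInf.2 fun o => Subgroup.mem_iInf.2 fun ho => MulAction.mem_stabilizer_iff.2 ?_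
    obtain ⟨m', hm', he⟩ := smul_fixed hg (by omega) hgx ho
    have hc := List.all_eq_true.1 hallo o ho
    simp only [Bool.and_eq_true, List.any_eq_true] at hc
    obtain ⟨⟨-, i, hi, hib⟩, hu⟩ := hc
    have hmem : g (pt i) ∈ g • dec o := by
      refine Finset.smul_mem_smul_finset ?_
      have := List.all_eq_true.1 sev_oct_checks.2.2.1 i hi
      rw [Bool.and_eq_true, decide_eq_true_eq] at this
      rw [mem_dec, idx_pt i this.1]; exact hib
    rw [hfix i hi, ← he, mem_dec] at hmem
    have hi24 : i < 24 := by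
      have := List.all_eq_true.1 sev_oct_checks.2.2.1 i hi
      rw [Bool.and_eq_true, decide_eq_true_eq] at this
      exact this.1
    rw [idx_pt i hi24] at hmem
    have h2 := List.all_eq_true.1 hu i hi
    simp only [Bool.or_eq_true, Bool.not_eq_true', hib, Bool.true_eq_false, false_or, List.all_eq_true,
      beq_iff_eq] at h2
    rw [← he, (h2 m' hm').resolve_left (by rw [hmem]; exact Bool.noConfusion)]
  · intro p hp
    have h := List.all_eq_true.1 sev_checks.2.2.2.2 (idx p) (List.mem_range.2 (idx_lt p))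
    rw [beq_iff_eq, mem_dec.1 hp, eq_comm, List.contains_iff_mem] at h
    have := hfix _ h
    rwa [pt_idx] at this

theorem exists_factor {g : Equiv.Perm GolayPt} (hg : g ∈ M24) {k : ℕ} (hk : 1 ≤ k ∧ k ≤ 6)
    (hgx : g * toPerm sevX = toPerm sevX ^ k * g) :
    ∃ P ∈ sevOuter, ∃ Q ∈ innerFor k, g = toPerm P * toPerm Q := by
  obtain ⟨hout, htrans, hlen, hnd⟩ := sev_outer_checks
  obtain ⟨a, b, c, habc⟩ : ∃ a b c, sevFix = [a, b, c] := List.length_eq_three.1 hlen
  have hmem : a ∈ sevFix ∧ b ∈ sevFix ∧ c ∈ sevFix := by simp [habc]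
  have hlt : ∀ i ∈ sevFix, i < 24 := fun i hi => by
    have := List.all_eq_true.1 sev_oct_checks.2.2.1 i hi
    rw [Bool.and_eq_true, decide_eq_true_eq] at this
    exact this.1
  have hk7 : k % 7 ≠ 0 := by omega
  have hne : ∀ u ∈ sevFix, ∀ v ∈ sevFix, u ≠ v → idx (g (pt u)) ≠ idx (g (pt v)) := fun u hu v hv huv e =>
    huv (pt_injOn (hlt u hu) (hlt v hv) (g.injective (idx_injective e)))
  rw [habc] at hnd
  simp only [List.nodup_cons, List.mem_cons, List.not_mem_nil, or_false, not_or] at hnd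
  have h := List.all_eq_true.1 (List.all_eq_true.1 (List.all_eq_true.1 htrans _
    (smul_fix_point hgx hk7 hmem.1)) _ (smul_fix_point hgx hk7 hmem.2.1)) _ (smul_fix_point hgx hk7 hmem.2.2)
  simp only [Bool.or_eq_true, beq_iff_eq, List.any_eq_true] at h
  obtain ⟨P, hP, hPe⟩ := h.resolve_left (by
    rintro ((e | e) | e)
    · exact hne a hmem.1 b hmem.2.1 hnd.1.1 e
    · exact hne a hmem.1 c hmem.2.2 hnd.1.2 e
    · exact hne b hmem.2.1 c hmem.2.2 hnd.2.1 e)
  have hc := List.all_eq_true.1 hout P hP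
  rw [Bool.and_eq_true] at hc
  have hv := valid_of_inM24' hc.1
  have hcomm : toPerm P * toPerm sevX = toPerm sevX * toPerm P := by
    have := toPerm_eq_of_eqP (validP_mulP hv valid_sev) (validP_mulP valid_sev hv) hc.2
    rwa [toPerm_mulP hv valid_sev, toPerm_mulP valid_sev hv] at this
  have hx' : ((toPerm P)⁻¹ * g) * toPerm sevX = toPerm sevX ^ k * ((toPerm P)⁻¹ * g) := by
    have h2 : (toPerm P)⁻¹ * toPerm sevX ^ k = toPerm sevX ^ k * (toPerm P)⁻¹ :=
      ((show Commute (toPerm P) (toPerm sevX) from hcomm).inv_left.pow_right k)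
    rw [mul_assoc, hgx, ← mul_assoc, h2, mul_assoc]
  obtain ⟨Q, hQ, he⟩ := mem_inner (mul_mem (inv_mem (toPerm_mem_M24 hc.1)) hg) hk hx' fun i hi => by
    rw [Equiv.Perm.mul_apply, Equiv.Perm.inv_eq_iff_eq]
    refine idx_injective ?_
    rw [idx_toPerm hv, idx_pt i (hlt i hi)]
    simp only [habc, List.map_cons, List.map_nil, List.cons.injEq, and_true] at hPe
    simp only [habc, List.mem_cons, List.not_mem_nil, or_false] at hi
    rcases hi with rfl | rfl | rfl
    exacts [hPe.1.symm, hPe.2.1.symm, hPe.2.2.symm]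
  exact ⟨P, hP, Q, hQ, by rw [← he, mul_inv_cancel_left]⟩

theorem inner_mem {k Q : ℕ} (hk : k ∈ [1, 2, 4]) (hQ : Q ∈ innerFor k) :
    validP Q = true ∧ toPerm Q ∈ M24 ∧ toPerm Q * toPerm sevX = toPerm sevX ^ k * toPerm Q := by
  have h := List.all_eq_true.1 (List.all_eq_true.1 sev_inner_conj k hk) Q hQ
  rw [Bool.and_eq_true] at h
  have hv := valid_of_inM24' h.1
  obtain ⟨hvk, hek⟩ := toPerm_powP valid_sev k
  refine ⟨hv, toPerm_mem_M24 h.1, ?_⟩
  have := toPerm_eq_of_eqP (validP_mulP hv valid_sev) (validP_mulP hvk hv) h.2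
  rwa [toPerm_mulP hv valid_sev, toPerm_mulP hvk hv, hek] at this

theorem outer_mem {P : ℕ} (hP : P ∈ sevOuter) :
    validP P = true ∧ toPerm P ∈ M24 ∧ toPerm P * toPerm sevX = toPerm sevX * toPerm P := by
  have h := List.all_eq_true.1 sev_outer_checks.1 P hP
  rw [Bool.and_eq_true] at h
  have hv := valid_of_inM24' h.1
  refine ⟨hv, toPerm_mem_M24 h.1, ?_⟩
  have := toPerm_eq_of_eqP (validP_mulP hv valid_sev) (validP_mulP valid_sev hv) h.2
  rwa [toPerm_mulP hv valid_sev, toPerm_mulP valid_sev hv] at this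

theorem set_eq (ks : List ℕ) (hks : ∀ k ∈ ks, k ∈ [1, 2, 4])
    (l : List ℕ) (hl : l = sevOuter.flatMap fun P => (ks.flatMap innerFor).map fun Q => mulP P Q) :
    (∀ P ∈ l, validP P = true) ∧ toPerm '' {P | P ∈ l} =
      {g : Equiv.Perm GolayPt | g ∈ M24 ∧ ∃ k ∈ ks, g * toPerm sevX = toPerm sevX ^ k * g} := by
  subst hl
  refine ⟨fun P hP => ?_, ?_⟩
  · simp only [List.mem_flatMap, List.mem_map] at hP
    obtain ⟨A, hA, Q, ⟨k, hk, hQ⟩, rfl⟩ := hP
    exact validP_mulP (outer_mem hA).1 (inner_mem (hks k hk) hQ).1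
  · ext g
    simp only [Set.mem_image, Set.mem_ofPred_eq, List.mem_flatMap, List.mem_map]
    constructor
    · rintro ⟨_, ⟨A, hA, Q, ⟨k, hk, hQ⟩, rfl⟩, rfl⟩
      obtain ⟨hvA, hMA, hcA⟩ := outer_mem hA
      obtain ⟨hvQ, hMQ, hcQ⟩ := inner_mem (hks k hk) hQ
      rw [toPerm_mulP hvA hvQ]
      refine ⟨mul_mem hMA hMQ, k, hk, ?_⟩
      rw [mul_assoc, hcQ, ← mul_assoc, ((show Commute (toPerm A) (toPerm sevX) from hcA).pow_right k).eq, mul_assoc]
    · rintro ⟨hg, k, hk, hgx⟩
      obtain ⟨A, hA, Q, hQ, rfl⟩ := exists_factor hg (by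
        have := hks k hk
        simp only [List.mem_cons, List.not_mem_nil, or_false] at this
        omega) hgx
      exact ⟨mulP A Q, ⟨A, hA, Q, ⟨k, hk, hQ⟩, rfl⟩, toPerm_mulP (outer_mem hA).1 (inner_mem (hks k hk) hQ).1⟩

theorem ncard_toPerm_image {l : List ℕ} (hv : ∀ P ∈ l, validP P = true)
    (hnd : (l.map fun P => (List.range 24).map (ap P)).Nodup) : (toPerm '' {P | P ∈ l}).ncard = l.length := by
  have hinj : Set.InjOn toPerm {P | P ∈ l} := fun a ha b hb e => by
    refine List.inj_on_of_nodup_map hnd ha hb (List.map_inj_left.2 fun i hi => ?_)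
    have hi' := List.mem_range.1 hi
    have h1 := idx_toPerm (hv a ha) (pt i)
    rw [e, idx_toPerm (hv b hb) (pt i), idx_pt i hi'] at h1
    exact h1.symm
  rw [hinj.ncard_image, ← List.toFinset_card_of_nodup (List.Nodup.of_map _ hnd), ← Set.ncard_coe_finset]
  congr 1
  ext P
  simp

theorem norm_iff {g : Equiv.Perm GolayPt} (hg : g ∈ M24) :
    (∃ k ∈ [1, 2, 4], g * toPerm sevX = toPerm sevX ^ k * g) ↔
      ∃ k, k < 7 ∧ g * toPerm sevX = toPerm sevX ^ k * g := by
  constructor
  · rintro ⟨k, hk, h⟩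
    simp only [List.mem_cons, List.not_mem_nil, or_false] at hk
    exact ⟨k, by omega, h⟩
  · rintro ⟨k, hk, h⟩
    have h0 : k ≠ 0 := fun e => by
      subst e
      rw [pow_zero, one_mul, mul_eq_left] at h
      have := orderOf_sev
      rw [h, orderOf_one] at this
      norm_num at this
    refine ⟨k, ?_, h⟩
    obtain ⟨-, -, Q, hQ, -⟩ := exists_factor hg (by omega) h
    obtain ⟨h3, h5, h6⟩ := sev_inner_empty
    simp only [List.mem_cons, List.not_mem_nil, or_false]
    by_contra hc
    push Not at hc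
    have : k = 3 ∨ k = 5 ∨ k = 6 := by omega
    rcases this with rfl | rfl | rfl
    · rw [h3] at hQ; exact absurd hQ List.not_mem_nil
    · rw [h5] at hQ; exact absurd hQ List.not_mem_nil
    · rw [h6] at hQ; exact absurd hQ List.not_mem_nil

theorem innerAll : innerFor 1 ++ innerFor 2 ++ innerFor 4 = [1, 2, 4].flatMap innerFor := by
  simp [List.flatMap_cons]

theorem innerOne : innerFor 1 = [1].flatMap innerFor := by simp

theorem norm_card : {g : Equiv.Perm GolayPt | g ∈ M24 ∧
      ∃ k, k < 7 ∧ g * toPerm sevX = toPerm sevX ^ k * g}.ncard = 126 := by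
  obtain ⟨hv, he⟩ := set_eq [1, 2, 4] (fun _ h => h) sevN (by rw [sevN, innerAll])
  have : {g : Equiv.Perm GolayPt | g ∈ M24 ∧ ∃ k, k < 7 ∧ g * toPerm sevX = toPerm sevX ^ k * g} =
      toPerm '' {P | P ∈ sevN} := by
    rw [he]; ext g
    exact and_congr_right fun hg => (norm_iff hg).symm
  rw [this, ncard_toPerm_image hv sev_list_checks.2.2.1, sev_list_checks.2.1]

theorem cent_eq : {g : Equiv.Perm GolayPt | g ∈ M24 ∧ g * toPerm sevX = toPerm sevX * g} =
    toPerm '' {P | P ∈ sevC} := by
  rw [(set_eq [1] (fun _ h => by simp at h; simp [h]) sevC (by rw [sevC]; simp)).2]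
  ext g
  simp

theorem cent_card : {g : Equiv.Perm GolayPt | g ∈ M24 ∧ g * toPerm sevX = toPerm sevX * g}.ncard = 42 := by
  rw [cent_eq, ncard_toPerm_image (set_eq [1] (fun _ h => by simp at h; simp [h]) sevC (by rw [sevC]; simp)).1
    sev_list_checks.2.2.2.1, sev_list_checks.1]

theorem cent_noncomm : ∃ a b : Equiv.Perm GolayPt, a ∈ M24 ∧ a * toPerm sevX = toPerm sevX * a ∧ b ∈ M24 ∧
    b * toPerm sevX = toPerm sevX * b ∧ a * b ≠ b * a := by
  have h := sev_list_checks.2.2.2.2
  simp only [List.any_eq_true, Bool.not_eq_true'] at h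
  obtain ⟨P, hP, Q, hQ, hne⟩ := h
  have hv := (set_eq [1] (fun _ h => by simp at h; simp [h]) sevC (by rw [sevC]; simp)).1
  have hP' : toPerm P ∈ toPerm '' {R | R ∈ sevC} := Set.mem_image_of_mem _ hP
  have hQ' : toPerm Q ∈ toPerm '' {R | R ∈ sevC} := Set.mem_image_of_mem _ hQ
  rw [← cent_eq] at hP' hQ'
  refine ⟨_, _, hP'.1, hP'.2, hQ'.1, hQ'.2, fun e => ?_⟩
  rw [← toPerm_mulP (hv P hP) (hv Q hQ), ← toPerm_mulP (hv Q hQ) (hv P hP)] at e
  rw [eqP_of_toPerm_eq (validP_mulP (hv P hP) (hv Q hQ)) (validP_mulP (hv Q hQ) (hv P hP)) e] at hne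
  exact Bool.noConfusion hne

theorem trio_mem : objF sevOcts ∈ trios := by
  obtain ⟨u, hu, he⟩ := List.any_eq_true.1 sev_oct_checks.2.2.2
  rw [← setEq_objF he]
  exact objF_mem_trios hu

theorem smul_trio {g : Equiv.Perm GolayPt} (hg : g ∈ M24) {k : ℕ} (hk : k < 7)
    (hgx : g * toPerm sevX = toPerm sevX ^ k * g) : g • objF sevOcts = objF sevOcts := by
  obtain ⟨j, hj, hgx'⟩ := (norm_iff hg).2 ⟨k, hk, hgx⟩
  refine Finset.eq_of_subset_of_card_le (fun X hX => ?_) (by rw [Finset.card_smul_finset])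
  obtain ⟨Y, hY, rfl⟩ := Finset.mem_smul_finset.1 hX
  simp only [objF, List.mem_toFinset, List.mem_map] at hY ⊢
  obtain ⟨m, hm, rfl⟩ := hY
  exact smul_fixed hg (by simp only [List.mem_cons, List.not_mem_nil, or_false] at hj; omega) hgx' hm

theorem normalizer_seven (S : Subgroup ↥M24) (hS : Nat.card S = 7) :
    Nat.card ↥(Subgroup.normalizer (S : Set ↥M24)) = 126 ∧
    Nat.card ↥(Subgroup.centralizer (S : Set ↥M24)) = 42 ∧
    (∃ x ∈ Subgroup.centralizer (S : Set ↥M24), ∃ y ∈ Subgroup.centralizer (S : Set ↥M24), x * y ≠ y * x) ∧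
    ∃ T ∈ trios, ∀ n ∈ Subgroup.normalizer (S : Set ↥M24), ((n : ↥M24) : Equiv.Perm GolayPt) • T = T := by
  haveI : Fact (Nat.Prime 7) := ⟨by norm_num⟩
  set x : ↥M24 := ⟨toPerm sevX, toPerm_mem_M24 sev_checks.1⟩ with hxdef
  have hx : orderOf x = 7 := (Subgroup.orderOf_coe x).symm.trans orderOf_sev
  have hcard : ∀ T : Subgroup ↥M24, Nat.card T = 7 → Nat.card T = 7 ^ (Nat.card ↥M24).factorization 7 := by
    intro T hT
    rw [hT, natCard_M24]
    have : (244823040 : ℕ).factorization 7 = 1 := by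
      rw [show (244823040 : ℕ) = 7 * 34974720 by norm_num, Nat.factorization_mul (by norm_num) (by norm_num),
        Finsupp.add_apply, Nat.Prime.factorization_self (by norm_num),
        Nat.factorization_eq_zero_of_not_dvd (by norm_num)]
    rw [this, pow_one]
  obtain ⟨k, hk⟩ := MulAction.exists_smul_eq ↥M24
    (Sylow.ofCard (Subgroup.zpowers x) (hcard _ (by rw [Nat.card_zpowers, hx])))
    (Sylow.ofCard S (hcard S hS))
  have hSe : S = Subgroup.zpowers (k * x * k⁻¹) := by
    have h := congrArg (fun P : Sylow 7 ↥M24 => (P : Subgroup ↥M24)) hk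
    simp only [Sylow.coe_subgroup_smul] at h
    rw [Subgroup.pointwise_smul_def] at h
    exact h.symm.trans (MonoidHom.map_zpowers _ x)
  subst hSe
  set s := k * x * k⁻¹ with hsdef
  have hs7 : orderOf s = 7 := by
    rw [hsdef, ← hx]; exact MulEquiv.orderOf_eq (MulAut.conj k) x
  let tr : ↥M24 → Equiv.Perm GolayPt := fun c => ((k⁻¹ * c * k : ↥M24) : Equiv.Perm GolayPt)
  have htr : ∀ (c : ↥M24) (i : ℕ), c * s = s ^ i * c ↔ tr c * toPerm sevX = toPerm sevX ^ i * tr c := by
    intro c i
    have e : toPerm sevX = ((x : ↥M24) : Equiv.Perm GolayPt) := rfl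
    rw [e, ← Subgroup.coe_pow, ← Subgroup.coe_mul, ← Subgroup.coe_mul, Subtype.coe_inj, hsdef, conj_pow]
    constructor
    · intro h
      calc k⁻¹ * c * k * x = k⁻¹ * (c * (k * x * k⁻¹)) * k := by group
        _ = _ := by rw [h]; group
    · intro h
      calc c * (k * x * k⁻¹) = k * (k⁻¹ * c * k * x) * k⁻¹ := by group
        _ = _ := by rw [h]; group
  have hnorm : ∀ c, c ∈ Subgroup.normalizer (Subgroup.zpowers s : Set ↥M24) ↔ ∃ i, i < 7 ∧ c * s = s ^ i * c := by
    intro c
    constructor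
    · intro h
      have h1 : c * s * c⁻¹ ∈ Subgroup.zpowers s :=
        (Subgroup.mem_normalizer_iff.1 h s).1 (Subgroup.mem_zpowers s)
      rw [(isOfFinOrder_of_finite s).mem_zpowers_iff_mem_range_orderOf, hs7] at h1
      obtain ⟨i, hi, he⟩ := Finset.mem_image.1 h1
      exact ⟨i, Finset.mem_range.1 hi, by rw [he, inv_mul_cancel_right]⟩
    · rintro ⟨i, -, h⟩
      have he : c * s * c⁻¹ = s ^ i := by rw [h, mul_inv_cancel_right]
      have hle : (Subgroup.zpowers s).map (MulAut.conj c).toMonoidHom ≤ Subgroup.zpowers s := by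
        rw [MonoidHom.map_zpowers, Subgroup.zpowers_le]
        show c * s * c⁻¹ ∈ Subgroup.zpowers s
        rw [he]; exact Subgroup.npow_mem_zpowers s i
      have heq := Subgroup.eq_of_le_of_card_ge hle (le_of_eq
        (Subgroup.card_map_of_injective (MulAut.conj c).injective).symm)
      rw [Subgroup.mem_normalizer_iff]
      intro y
      constructor
      · intro hy; rw [← heq]; exact Subgroup.mem_map_of_mem _ hy
      · intro hy
        have hy' : c * y * c⁻¹ ∈ (Subgroup.zpowers s).map (MulAut.conj c).toMonoidHom := heq.symm ▸ hy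
        obtain ⟨z, hz, hze⟩ := Subgroup.mem_map.1 hy'
        exact (MulAut.conj c).injective hze ▸ hz
  have hcent : ∀ c, c ∈ Subgroup.centralizer (Subgroup.zpowers s : Set ↥M24) ↔ c * s = s ^ 1 * c := by
    intro c
    rw [pow_one, Subgroup.mem_centralizer_iff]
    refine ⟨fun h => (h s (Subgroup.mem_zpowers s)).symm, fun h y hy => ?_⟩
    obtain ⟨i, rfl⟩ := hy
    exact ((show Commute c s from h).zpow_right i).eq.symm
  have himg : ∀ (p : ↥M24 → Prop) (q : Equiv.Perm GolayPt → Prop), (∀ c, p c ↔ q (tr c)) →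
      Nat.card {c : ↥M24 // p c} = {g : Equiv.Perm GolayPt | g ∈ M24 ∧ q g}.ncard := by
    intro p q hpq
    rw [← Nat.card_coe_set_eq]
    refine Nat.card_congr
      { toFun := fun c => ⟨tr c.1, (k⁻¹ * c.1 * k : ↥M24).2, (hpq c.1).1 c.2⟩
        invFun := fun g => ⟨k * ⟨g.1, g.2.1⟩ * k⁻¹, (hpq _).2 ?_⟩
        left_inv := fun c => Subtype.ext (by
          show k * (k⁻¹ * c.1 * k) * k⁻¹ = c.1; group)
        right_inv := fun g => Subtype.ext ?_ }
    · have e : k⁻¹ * (k * ⟨g.1, g.2.1⟩ * k⁻¹) * k = (⟨g.1, g.2.1⟩ : ↥M24) := by group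
      show q ((k⁻¹ * (k * ⟨g.1, g.2.1⟩ * k⁻¹) * k : ↥M24) : Equiv.Perm GolayPt)
      rw [e]; exact g.2.2
    · have e : k⁻¹ * (k * ⟨g.1, g.2.1⟩ * k⁻¹) * k = (⟨g.1, g.2.1⟩ : ↥M24) := by group
      show ((k⁻¹ * (k * ⟨g.1, g.2.1⟩ * k⁻¹) * k : ↥M24) : Equiv.Perm GolayPt) = g.1
      rw [e]
  refine ⟨?_, ?_, ?_, (k : Equiv.Perm GolayPt) • objF sevOcts, smul_mem_trios k.2 trio_mem, fun n hn => ?_⟩
  · rw [← norm_card]
    exact himg _ _ fun c => (hnorm c).trans (exists_congr fun i => and_congr_right fun _ => htr c i)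
  · rw [← cent_card]
    exact himg _ _ fun c => (hcent c).trans ((htr c 1).trans (by rw [pow_one]))
  · obtain ⟨a, b, ha, hax, hb, hbx, hne⟩ := cent_noncomm
    have hin : ∀ (g : Equiv.Perm GolayPt) (hg : g ∈ M24), g * toPerm sevX = toPerm sevX * g →
        k * ⟨g, hg⟩ * k⁻¹ ∈ Subgroup.centralizer (Subgroup.zpowers s : Set ↥M24) := by
      intro g hg h
      rw [hcent, htr, pow_one]
      have e : k⁻¹ * (k * ⟨g, hg⟩ * k⁻¹) * k = (⟨g, hg⟩ : ↥M24) := by group
      simp only [tr, e]
      exact h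
    refine ⟨_, hin a ha hax, _, hin b hb hbx, fun e => hne ?_⟩
    have e' : k * (⟨a, ha⟩ * ⟨b, hb⟩) * k⁻¹ = k * (⟨b, hb⟩ * ⟨a, ha⟩) * k⁻¹ := by
      calc k * (⟨a, ha⟩ * ⟨b, hb⟩) * k⁻¹ = (k * ⟨a, ha⟩ * k⁻¹) * (k * ⟨b, hb⟩ * k⁻¹) := by group
        _ = _ := by rw [e]; group
    exact congrArg Subtype.val (mul_left_cancel (mul_right_cancel e') : (⟨a, ha⟩ * ⟨b, hb⟩ : ↥M24) = ⟨b, hb⟩ * ⟨a, ha⟩)
  · obtain ⟨i, hi, h⟩ := (hnorm n).1 hn
    have h2 := smul_trio (k⁻¹ * n * k : ↥M24).2 hi ((htr n i).1 h)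
    have e : ((k⁻¹ * n * k : ↥M24) : Equiv.Perm GolayPt) =
        (k : Equiv.Perm GolayPt)⁻¹ * (n : Equiv.Perm GolayPt) * k := rfl
    rw [e, mul_smul, mul_smul, inv_smul_eq_iff] at h2
    exact h2

end CfsgLib.Golay.Classes.Seven
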