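import Cfsg.Agent.Lib.Golay.Classes.ThreeChecks
import Cfsg.Agent.Lib.Golay.Systems.FixLists
import Cfsg.Agent.S5394
import Mathlib.GroupTheory.Perm.Cycle.Type

/-!
The two classes of elements of order three in the group of the code.
-/

set_option autoImplicit false
set_option maxRecDepth 20000

namespace CfsgLib.Golay.Classes

open Cfsg CfsgLib.Golay.SylowTwo CfsgLib.Golay.SylowList
open scoped Pointwise

attribute [local irreducible] idP toPerm mulP validP octTree dodTree trioTree sextTree

/-- the fixed points of a permutation -/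
def fixSet (g : Equiv.Perm GolayPt) : Finset GolayPt := Finset.univ.filter fun p => g p = p

theorem mem_fixSet {g : Equiv.Perm GolayPt} {p : GolayPt} : p ∈ fixSet g ↔ g p = p := by simp [fixSet]

theorem fixSet_conj (k r : Equiv.Perm GolayPt) : fixSet (k * r * k⁻¹) = k • fixSet r := by
  ext p
  rw [mem_fixSet, Cfsg.Agent.S5394.fix_conj, ← Finset.inv_smul_mem_iff, mem_fixSet, Equiv.Perm.smul_def]

theorem card_fixSet_conj (k r : Equiv.Perm GolayPt) :
    (fixSet (k * r * k⁻¹)).card = (fixSet r).card := by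
  rw [fixSet_conj, Finset.card_smul_finset]

theorem valid_of_inM24' {P : ℕ} (h : inM24 P = true) : validP P = true := by
  simp only [inM24, Bool.and_eq_true] at h; exact h.1

theorem valid_six : validP threeSix = true := valid_of_inM24' rep_checks.1

theorem valid_free : validP threeFree = true := valid_of_inM24' rep_checks.2.1

/-- the six fixed points -/
def sixSet : Finset GolayPt := (sixFixed.map pt).toFinset

theorem mem_sixSet {p : GolayPt} : p ∈ sixSet ↔ idx p ∈ sixFixed := by
  have hlt := rep_checks.2.2.2.2.2.2.2.2.2.1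
  simp only [List.all_eq_true, decide_eq_true_eq] at hlt
  simp only [sixSet, List.mem_toFinset, List.mem_map]
  constructor
  · rintro ⟨i, hi, rfl⟩; rwa [idx_pt i (hlt i hi)]
  · exact fun h => ⟨_, h, pt_idx p⟩

theorem fixSet_six : fixSet (toPerm threeSix) = sixSet := by
  ext p
  have h := List.all_eq_true.1 rep_checks.2.2.2.2.2.2.1 (idx p) (List.mem_range.2 (idx_lt p))
  simp only [Bool.and_eq_true, beq_iff_eq] at h
  rw [mem_fixSet, mem_sixSet, ← List.contains_iff_mem, ← h.1, beq_iff_eq, ← idx_toPerm valid_six]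
  exact ⟨fun e => by rw [e], fun e => idx_injective e⟩

theorem card_sixSet : sixSet.card = 6 := by
  have hlt := rep_checks.2.2.2.2.2.2.2.2.2.1
  simp only [List.all_eq_true, decide_eq_true_eq] at hlt
  rw [sixSet, List.toFinset_card_of_nodup, List.length_map, rep_checks.2.2.2.2.2.2.2.2.1]
  exact rep_checks.2.2.2.2.2.2.2.1.map_on fun a ha b hb e => pt_injOn (hlt a ha) (hlt b hb) e

theorem fixSet_free : fixSet (toPerm threeFree) = ∅ := by
  refine Finset.filter_eq_empty_iff.2 fun p _ he => ?_
  have h := List.all_eq_true.1 rep_checks.2.2.2.2.2.2.1 (idx p) (List.mem_range.2 (idx_lt p))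
  simp only [Bool.and_eq_true, bne_iff_ne] at h
  exact h.2 (by rw [← idx_toPerm valid_free, he])

theorem sixSet_no_octad : ¬ ∃ o ∈ octads, sixSet ⊆ o := by
  rintro ⟨o, ho, hsub⟩
  obtain ⟨m, hm, -, rfl⟩ := octad_mask ho
  have h := List.all_eq_true.1 rep_checks.2.2.2.2.2.2.2.2.2.2 m hm
  simp only [Bool.not_eq_true', List.all_eq_false] at h
  obtain ⟨i, hi, hbit⟩ := h
  have hlt := rep_checks.2.2.2.2.2.2.2.2.2.1
  simp only [List.all_eq_true, decide_eq_true_eq] at hlt
  refine hbit ?_
  have hp : pt i ∈ sixSet := mem_sixSet.2 (by rwa [idx_pt i (hlt i hi)])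
  have := mem_dec.1 (hsub hp)
  rwa [idx_pt i (hlt i hi)] at this

theorem orderOf_three {R : ℕ} (hv : validP R = true) (h3 : eqP (mulP R (mulP R R)) idP = true)
    (h1 : eqP R idP = false) : orderOf (toPerm R) = 3 := by
  haveI : Fact (Nat.Prime 3) := ⟨Nat.prime_three⟩
  refine orderOf_eq_prime ?_ fun h => ?_
  · have h' := toPerm_eq_of_eqP (validP_mulP hv (validP_mulP hv hv)) validP_idP h3
    rw [toPerm_mulP hv (validP_mulP hv hv), toPerm_mulP hv hv, toPerm_idP] at h'
    rw [pow_succ', pow_two]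
    exact h'
  · rw [eqP_of_toPerm_eq hv validP_idP (h.trans toPerm_idP.symm)] at h1
    simp at h1

theorem orderOf_six : orderOf (toPerm threeSix) = 3 :=
  orderOf_three valid_six rep_checks.2.2.1 rep_checks.2.2.2.2.1

theorem orderOf_free : orderOf (toPerm threeFree) = 3 :=
  orderOf_three valid_free rep_checks.2.2.2.1 rep_checks.2.2.2.2.2.1

/-- every element of order three is conjugate to one of the two representatives -/
theorem conj_three {g : Equiv.Perm GolayPt} (hg : g ∈ M24) (ho : orderOf g = 3) :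
    ∃ k ∈ M24, k * toPerm threeSix * k⁻¹ = g ∨ k * toPerm threeFree * k⁻¹ = g := by
  haveI : Fact (Nat.Prime 3) := ⟨Nat.prime_three⟩
  obtain ⟨hcl, hlen, hM, hclen⟩ := syl_closed
  obtain ⟨a, ha, P, hP, hPe⟩ := exists_conj_list (n := 3) (m := 9067520) (p := 3)
    (show Nat.card M24 = 3 ^ 3 * 9067520 by rw [natCard_M24]; norm_num) (by norm_num) hcl (by rw [hlen]; norm_num)
    (fun P hP => toPerm_mem_M24 (List.all_eq_true.1 hM P hP)) hg (k := 1)
    (by rw [pow_one, ← ho]; exact pow_orderOf_eq_one g)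
  obtain ⟨i, hi, rfl⟩ := List.getElem_of_mem hP
  have hi' : i < sylThreeConj.length := by rw [hclen, ← hlen]; exact hi
  have hz : (sylThree[i], sylThreeConj[i]) ∈ sylThree.zip sylThreeConj := by
    rw [List.mem_iff_getElem]
    exact ⟨i, by rw [List.length_zip]; omega, List.getElem_zip⟩
  have h := List.all_eq_true.1 syl_conj _ hz
  have hv := valid_of_inM24' (List.all_eq_true.1 hM _ hP)
  simp only [Bool.or_eq_true, Bool.and_eq_true] at h
  rcases h with h | ⟨hT', h2⟩
  · exfalso
    have h1 := toPerm_eq_of_eqP hv validP_idP h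
    rw [toPerm_idP, ← hPe, conj_eq_one_iff] at h1
    rw [h1, orderOf_one] at ho
    omega
  set T := sylThreeConj[i]
  have hT := valid_of_inM24' hT'
  refine ⟨a⁻¹ * toPerm T, mul_mem (inv_mem ha) (toPerm_mem_M24 hT'), ?_⟩
  have key : ∀ R : ℕ, validP R = true → eqP (mulP T R) (mulP sylThree[i] T) = true →
      a⁻¹ * toPerm T * toPerm R * (a⁻¹ * toPerm T)⁻¹ = g := by
    intro R hR he
    have h1 := toPerm_eq_of_eqP (validP_mulP hT hR) (validP_mulP hv hT) he
    rw [toPerm_mulP hT hR, toPerm_mulP hv hT, ← hPe] at h1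
    rw [mul_assoc a⁻¹, h1]
    group
  exact h2.imp (key _ valid_six) (key _ valid_free)

theorem conj_six {g : Equiv.Perm GolayPt} (hg : g ∈ M24) (ho : orderOf g = 3)
    (h6 : (fixSet g).card = 6) : ∃ k ∈ M24, k * toPerm threeSix * k⁻¹ = g := by
  obtain ⟨k, hk, h | h⟩ := conj_three hg ho
  · exact ⟨k, hk, h⟩
  · rw [← h, card_fixSet_conj, fixSet_free, Finset.card_empty] at h6; omega

theorem conj_free {g : Equiv.Perm GolayPt} (hg : g ∈ M24) (ho : orderOf g = 3)
    (h0 : (fixSet g).card = 0) : ∃ k ∈ M24, k * toPerm threeFree * k⁻¹ = g := by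
  obtain ⟨k, hk, h | h⟩ := conj_three hg ho
  · rw [← h, card_fixSet_conj, fixSet_six, card_sixSet] at h0; omega
  · exact ⟨k, hk, h⟩

theorem fixSet_three {g : Equiv.Perm GolayPt} (hg : g ∈ M24) (ho : orderOf g = 3) :
    (fixSet g).card = 6 ∨ (fixSet g).card = 0 := by
  obtain ⟨k, hk, rfl | rfl⟩ := conj_three hg ho
  · exact Or.inl (by rw [card_fixSet_conj, fixSet_six, card_sixSet])
  · exact Or.inr (by rw [card_fixSet_conj, fixSet_free, Finset.card_empty])

theorem orderOf_conj (k g : Equiv.Perm GolayPt) : orderOf (k * g * k⁻¹) = orderOf g :=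
  (MulEquiv.orderOf_eq (MulAut.conj k) g)

theorem fixSet_two {g : Equiv.Perm GolayPt} (hg : g ∈ M24) (ho : orderOf g = 2) :
    (fixSet g).card = 8 ∨ ∀ p, g p ≠ p := by
  rcases Cfsg.Agent.S5394.result.1 g hg ho with h | h
  · exact Or.inl h.2
  · exact Or.inr h

/-- no fixed-point-free involution centralizes an element with six fixed points -/
theorem no_free_commute {s : Equiv.Perm GolayPt} (hs : s ∈ M24) (h2 : orderOf s = 2)
    (h0 : ∀ p, s p ≠ p) : ¬ Commute (toPerm threeSix) s := by
  classical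
  intro hc
  set X := toPerm threeSix with hX
  have hsq : ∀ p, s (s p) = p := fun p => by
    have := pow_orderOf_eq_one s
    rw [h2, pow_two] at this
    exact Equiv.congr_fun this p
  have hinv : ∀ p ∈ sixSet, s p ∈ sixSet := fun p hp => by
    rw [← fixSet_six, mem_fixSet] at hp ⊢
    rw [← Equiv.Perm.mul_apply, hc.eq, Equiv.Perm.mul_apply, hp]
  have hlt := rep_checks.2.2.2.2.2.2.2.2.2.1
  simp only [List.all_eq_true, decide_eq_true_eq] at hlt
  have hin : ∀ i ∈ sixFixed, idx (s (pt i)) ∈ sixFixed := fun i hi =>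
    mem_sixSet.1 (hinv _ (mem_sixSet.2 (by rwa [idx_pt i (hlt i hi)])))
  set cs := sixFixed.map fun i => idx (s (pt i)) with hcs
  have hmem : cs ∈ choices (sixFixed.map fun a => sixFixed.filter fun b => b != a) := by
    refine mem_choices _ _ ?_
    rw [hcs, List.forall₂_map_left_iff, List.forall₂_map_right_iff]
    refine List.forall₂_same.2 fun i hi => List.mem_filter.2 ⟨hin i hi, ?_⟩
    rw [bne_iff_ne]
    exact fun e => h0 (pt i) (idx_injective (e.trans (idx_pt i (hlt i hi)).symm))
  have hzip : sixFixed.zip cs = sixFixed.map fun i => (i, idx (s (pt i))) := by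
    rw [hcs, List.zip_map_right]
    simp [List.zip, List.zipWith_self]
  have hpair : isPairing sixFixed cs = true := by
    simp only [isPairing, hzip, List.all_eq_true, List.contains_iff_mem, List.mem_map]
    rintro _ ⟨i, hi, rfl⟩
    exact ⟨idx (s (pt i)), hin i hi, by rw [pt_idx, hsq, idx_pt i (hlt i hi)]⟩
  have h := List.all_eq_true.1 pair_ext cs hmem
  simp only [hpair, Bool.not_true, Bool.false_or, List.any_eq_true, List.all_eq_true, beq_iff_eq,
    hzip, List.mem_map] at h
  obtain ⟨P, hP, hPi⟩ := h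
  have hb := List.all_eq_true.1 pair_bad P hP
  simp only [Bool.and_eq_true] at hb
  obtain ⟨⟨⟨hPM, b0⟩, b1⟩, b2⟩ := hb
  have hv := valid_of_inM24' hPM
  -- on the six points `s` agrees with the listed element
  have hagree : ∀ p ∈ sixSet, ((toPerm P)⁻¹ * s) p = p := by
    intro p hp
    rw [Equiv.Perm.mul_apply, Equiv.Perm.inv_eq_iff_eq]
    have := hPi (idx p, idx (s p)) ⟨idx p, mem_sixSet.1 hp, by rw [pt_idx]⟩
    exact idx_injective (by rw [idx_toPerm hv]; exact this.symm)
  -- the elements fixing the six points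
  have h3 := ((six_orders card_sixSet).2 sixSet_no_octad).1
  rw [show Nat.card {g : Equiv.Perm GolayPt // g ∈ M24 ∧ ∀ p ∈ sixSet, g p = p} =
    {g : Equiv.Perm GolayPt | g ∈ M24 ∧ ∀ p ∈ sixSet, g p = p}.ncard from Nat.card_coe_set_eq _] at h3
  have hXM : X ∈ M24 := toPerm_mem_M24 rep_checks.1
  have hXfix : ∀ p ∈ sixSet, X p = p := fun p hp => by rwa [← fixSet_six, mem_fixSet] at hp
  have hX3 : X ^ 3 = 1 := by rw [← orderOf_six]; exact pow_orderOf_eq_one X
  have hne : X ≠ 1 := fun e => by have := orderOf_six; rw [← hX, e, orderOf_one] at this; omega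
  have heq : {g : Equiv.Perm GolayPt | g ∈ M24 ∧ ∀ p ∈ sixSet, g p = p} =
      (({1, X, X * X} : Finset (Equiv.Perm GolayPt)) : Set (Equiv.Perm GolayPt)) := by
    refine (Set.eq_of_subset_of_ncard_le ?_ ?_ (Set.toFinite _)).symm
    · intro g hg
      simp only [Finset.coe_insert, Finset.coe_singleton, Set.mem_insert_iff, Set.mem_singleton_iff] at hg
      rcases hg with rfl | rfl | rfl
      · exact ⟨one_mem _, fun p _ => rfl⟩
      · exact ⟨hXM, hXfix⟩
      · exact ⟨mul_mem hXM hXM, fun p hp => by rw [Equiv.Perm.mul_apply, hXfix p hp, hXfix p hp]⟩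
    · have h1 : X * X ≠ 1 := fun e => hne (by rw [pow_succ', pow_two, e, mul_one] at hX3; exact hX3)
      have h2' : X * X ≠ X := fun e => hne (mul_eq_left.1 e)
      rw [h3, Set.ncard_coe_finset, Finset.card_insert_of_notMem (by simp [Ne.symm hne, Ne.symm h1]),
        Finset.card_insert_of_notMem (by simp [Ne.symm h2']), Finset.card_singleton]
  have hk : (toPerm P)⁻¹ * s ∈ ({1, X, X * X} : Finset (Equiv.Perm GolayPt)) := by
    have : (toPerm P)⁻¹ * s ∈ {g : Equiv.Perm GolayPt | g ∈ M24 ∧ ∀ p ∈ sixSet, g p = p} :=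
      ⟨mul_mem (inv_mem (toPerm_mem_M24 hPM)) hs, hagree⟩
    rw [heq] at this
    exact this
  have final : ∀ R : ℕ, validP R = true → badExt R = true → s ≠ toPerm R := by
    intro R hR hbad hsR
    simp only [badExt, Bool.or_eq_true, Bool.not_eq_true', List.any_eq_true, beq_iff_eq, List.mem_range] at hbad
    rcases hbad with (hb | ⟨i, hi, hb⟩) | hb
    · rw [eqP_of_toPerm_eq (validP_mulP hR hR) validP_idP (by
        rw [toPerm_mulP hR hR, toPerm_idP, ← hsR, ← pow_two, ← h2, pow_orderOf_eq_one])] at hb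
      simp at hb
    · refine h0 (pt i) (idx_injective ?_)
      rw [hsR, idx_toPerm hR, idx_pt i hi, hb]
    · rw [eqP_of_toPerm_eq (validP_mulP hR valid_six) (validP_mulP valid_six hR) (by
        rw [toPerm_mulP hR valid_six, toPerm_mulP valid_six hR, ← hsR]; exact hc.eq.symm)] at hb
      simp at hb
  simp only [Finset.mem_insert, Finset.mem_singleton] at hk
  rcases hk with hk | hk | hk
  · exact final P hv b0 (inv_mul_eq_one.1 hk).symm
  · refine final _ (validP_mulP hv valid_six) b1 ?_
    rw [toPerm_mulP hv valid_six, ← hX, ← hk, mul_inv_cancel_left]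
  · refine final _ (validP_mulP hv (validP_mulP valid_six valid_six)) b2 ?_
    rw [toPerm_mulP hv (validP_mulP valid_six valid_six), toPerm_mulP valid_six valid_six, ← hX, ← hk,
      mul_inv_cancel_left]

/-- fixed points of commuting elements of orders three and two -/
theorem commuting_three_two {x s : Equiv.Perm GolayPt} (hx : x ∈ M24) (hs : s ∈ M24)
    (h3 : orderOf x = 3) (h2 : orderOf s = 2) (hc : Commute x s) :
    ((fixSet x).card = 6 ∧ (fixSet s).card = 8) ∨ ((fixSet x).card = 0 ∧ (fixSet s).card = 0) := by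
  classical
  rcases fixSet_three hx h3 with hx6 | hx0
  · rcases fixSet_two hs h2 with hs8 | hs0
    · exact Or.inl ⟨hx6, hs8⟩
    · exfalso
      obtain ⟨k, hk, rfl⟩ := conj_six hx h3 hx6
      refine no_free_commute (s := k⁻¹ * s * k) (mul_mem (mul_mem (inv_mem hk) hs) hk) ?_ (fun p hp => ?_) ?_
      · rw [show k⁻¹ * s * k = k⁻¹ * s * (k⁻¹)⁻¹ by rw [inv_inv], orderOf_conj, h2]
      · refine hs0 (k p) ?_
        rw [Equiv.Perm.mul_apply, Equiv.Perm.mul_apply, Equiv.Perm.inv_eq_iff_eq] at hp
        exact hp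
      · have h := hc.eq
        show toPerm threeSix * (k⁻¹ * s * k) = k⁻¹ * s * k * toPerm threeSix
        calc toPerm threeSix * (k⁻¹ * s * k) = k⁻¹ * (k * toPerm threeSix * k⁻¹ * s) * k := by group
          _ = k⁻¹ * (s * (k * toPerm threeSix * k⁻¹)) * k := by rw [h]
          _ = k⁻¹ * s * k * toPerm threeSix := by group
  · rcases fixSet_two hs h2 with hs8 | hs0
    · exfalso
      have hinv : ∀ p, p ∈ fixSet s ↔ x p ∈ fixSet s := fun p => by
        rw [mem_fixSet, mem_fixSet, ← Equiv.Perm.mul_apply, ← hc.eq, Equiv.Perm.mul_apply]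
        exact x.injective.eq_iff.symm
      haveI : Fact (Nat.Prime 3) := ⟨Nat.prime_three⟩
      let σ : Equiv.Perm {p // p ∈ fixSet s} := x.subtypePerm fun p => (hinv p).symm
      have hσ : σ ^ 3 ^ 1 = 1 := by
        ext p
        simp only [σ, pow_one, Equiv.Perm.subtypePerm_pow, Equiv.Perm.subtypePerm_apply,
          Equiv.Perm.coe_one, id_eq, ← h3, pow_orderOf_eq_one]
      have hmod := Equiv.Perm.card_compl_support_modEq hσ
      have hempty : σ.supportᶜ = ∅ := by
        refine Finset.eq_empty_of_forall_notMem fun p hp => ?_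
        rw [Finset.mem_compl, Equiv.Perm.notMem_support] at hp
        have hxp : (p : GolayPt) ∈ fixSet x := mem_fixSet.2 (congrArg Subtype.val hp)
        rw [Finset.card_eq_zero.1 hx0] at hxp
        exact absurd hxp (Finset.notMem_empty _)
      rw [hempty, Finset.card_empty, Fintype.card_coe, hs8] at hmod
      exact absurd hmod (by decide)
    · exact Or.inr ⟨hx0, Finset.card_eq_zero.2 (Finset.filter_eq_empty_iff.2 fun p _ => hs0 p)⟩

end CfsgLib.Golay.Classes
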