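import Cfsg.Agent.Lib.Golay.SylowList
import Cfsg.Agent.Lib.Golay.Commute
import Cfsg.Agent.Lib.Golay.CodeLists
import Cfsg.Agent.Lib.Golay.Classes.ThreeData

/-!
Kernel checks for the classes of elements of order three.
-/

set_option autoImplicit false
-- the checks run one after another, which keeps the peak memory low
set_option Elab.async false
set_option maxRecDepth 20000

namespace CfsgLib.Golay.Classes

open CfsgLib.Golay.SylowTwo CfsgLib.Golay.SylowList

/-- the fixed points of a packed permutation, as a mask -/
def fixMask (P : ℕ) : ℕ :=
  ((List.range 24).filter fun i => ap P i == i).foldl (fun a i => a ||| (1 <<< i)) 0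

/-- the test that a choice of images is a pairing of the listed points -/
def isPairing (F cs : List ℕ) : Bool :=
  (F.zip cs).all fun e => (F.zip cs).contains (e.2, e.1)

/-- an element of the listed coset does not exchange points in pairs and commute with `threeSix` -/
def badExt (P : ℕ) : Bool :=
  !eqP (mulP P P) idP || (List.range 24).any (fun i => ap P i == i) ||
    !eqP (mulP P threeSix) (mulP threeSix P)

theorem syl_closed : closedOK sylThree = true ∧ sylThree.length = 27 ∧
    sylThree.all inM24 = true ∧ sylThreeConj.length = 27 := by decide +kernel

theorem syl_conj : ((sylThree.zip sylThreeConj).all fun t => eqP t.1 idP || (inM24 t.2 &&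
    (eqP (mulP t.2 threeSix) (mulP t.1 t.2) || eqP (mulP t.2 threeFree) (mulP t.1 t.2)))) = true := by
  decide +kernel

theorem rep_checks : inM24 threeSix = true ∧ inM24 threeFree = true ∧
    eqP (mulP threeSix (mulP threeSix threeSix)) idP = true ∧
    eqP (mulP threeFree (mulP threeFree threeFree)) idP = true ∧
    eqP threeSix idP = false ∧ eqP threeFree idP = false ∧
    ((List.range 24).all fun i => ((ap threeSix i == i) == sixFixed.contains i) && ap threeFree i != i) = true ∧
    sixFixed.Nodup ∧ sixFixed.length = 6 ∧ (sixFixed.all fun i => decide (i < 24)) = true ∧
    (octLit.all fun o => !(sixFixed.all fun i => o.testBit i)) = true := by decide +kernel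

theorem pair_ext : (choices (sixFixed.map fun a => sixFixed.filter fun b => b != a)).all (fun cs =>
    !isPairing sixFixed cs || pairExt.any fun P => (sixFixed.zip cs).all fun e => ap P e.1 == e.2) = true := by
  decide +kernel

theorem pair_bad : (pairExt.all fun P => inM24 P && badExt P && badExt (mulP P threeSix) &&
    badExt (mulP P (mulP threeSix threeSix))) = true := by decide +kernel

end CfsgLib.Golay.Classes
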